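import Cfsg.Agent.AbEqConj.Semilinear
import Cfsg.Agent.BenderSE.Induction
import Cfsg.Agent.GWDihedral.Consumers.QGroup.Quotient
import Cfsg.Agent.GWDihedral.Consumers.RankOne
import Cfsg.Agent.Walter.Main
import Cfsg.Agent.GenDihedral.Red.Unip

/-!
Groups in which abelian subgroups of equal order are conjugate: the Sylow 2-subgroups of a simple normal
subgroup are abelian, and its binary linear fractional case.
-/

set_option autoImplicit false
set_option linter.unusedSectionVars false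
set_option linter.style.haveILetI false

namespace Cfsg.Lib.AbEqConj

open Subgroup Cfsg.Lib.Known.AutPSL2

universe u

variable {G : Type u} [Group G] [Finite G]

/-- Abelian subgroups of equal order are conjugate. -/
def AEq (G : Type u) [Group G] : Prop :=
  ∀ A B : Subgroup G, IsMulCommutative ↥A → IsMulCommutative ↥B → Nat.card ↥A = Nat.card ↥B →
    ∃ g : G, B = A.map (MulAut.conj g).toMonoidHom

/-- Elements of order `p ^ 2` exclude elementary subgroups of order `p ^ 2`. -/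
theorem not_both (h : AEq G) {p : ℕ} (hp : p.Prime) {x a b : G} (hx : orderOf x = p ^ 2) (ha : orderOf a = p)
    (hb : orderOf b = p) (hab : Commute a b) (hne : b ∉ zpowers a) : False := by
  haveI : Fact p.Prime := ⟨hp⟩
  set K := closure ({a, b} : Set G) with hKdef
  haveI hK : IsMulCommutative ↥K := isMulCommutative_closure (by
    rintro y (rfl | rfl) z (rfl | rfl)
    exacts [rfl, hab, hab.symm, rfl])
  have hexp : ∀ y ∈ K, y ^ p = 1 := fun y hy => by
    induction hy using closure_induction with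
    | mem y hy =>
      rcases hy with rfl | rfl
      · rw [← ha, pow_orderOf_eq_one]
      · rw [← hb, pow_orderOf_eq_one]
    | one => exact one_pow p
    | mul y z hy hz ihy ihz =>
      have hc : Commute y z := congrArg Subtype.val (hK.is_comm.comm ⟨y, hy⟩ ⟨z, hz⟩)
      rw [hc.mul_pow, ihy, ihz, one_mul]
    | inv y hy ih => rw [inv_pow, ih, inv_one]
  have haK : a ∈ K := subset_closure (by simp)
  have hbK : b ∈ K := subset_closure (by simp)
  obtain ⟨n, hn⟩ := IsPGroup.iff_card.1 (show IsPGroup p ↥K from fun y => ⟨1, Subtype.ext (by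
    rw [pow_one, SubmonoidClass.coe_pow, hexp y y.2]; rfl)⟩)
  have hn2 : 2 ≤ n := by
    by_contra hn'
    have h1 : Nat.card ↥K ≤ Nat.card ↥(zpowers a) := by
      rw [Nat.card_zpowers, ha, hn]
      exact (Nat.pow_le_pow_right hp.pos (show n ≤ 1 by omega)).trans_eq (pow_one p)
    have h2 := Subgroup.eq_of_le_of_card_ge (zpowers_le.2 haK) h1
    exact hne (h2 ▸ hbK)
  obtain ⟨K₁, hK₁⟩ := Sylow.exists_subgroup_card_pow_prime (G := ↥K) p (n := 2) (hn ▸ pow_dvd_pow p hn2)
  set K₂ := K₁.map K.subtype with hK₂def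
  have hK₂le : K₂ ≤ K := map_subtype_le K₁
  have hK₂ : Nat.card ↥K₂ = p ^ 2 := by rw [hK₂def, card_map_of_injective K.subtype_injective, hK₁]
  obtain ⟨g, hg⟩ := h K₂ (zpowers x) ⟨⟨fun y z => Subtype.ext (congrArg Subtype.val
      (hK.is_comm.comm ⟨y, hK₂le y.2⟩ ⟨z, hK₂le z.2⟩) :)⟩⟩ inferInstance (by rw [hK₂, Nat.card_zpowers, hx])
  obtain ⟨y, hy, hyx⟩ : x ∈ K₂.map (MulAut.conj g).toMonoidHom := hg ▸ mem_zpowers x
  have h1 : x ^ p = 1 := by rw [← hyx, ← map_pow, hexp y (hK₂le hy), map_one]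
  have h2 := Nat.le_of_dvd hp.pos (hx ▸ orderOf_dvd_of_pow_eq_one h1)
  exact absurd h2 (not_le.2 (lt_self_pow₀ hp.one_lt one_lt_two))

/-- A non-abelian simple group has two commuting involutions. -/
theorem exists_comm_invol {M : Type u} [Group M] [Finite M] [IsSimpleGroup M] (hna : ¬ IsMulCommutative M) :
    ∃ a b : M, orderOf a = 2 ∧ orderOf b = 2 ∧ a ≠ b ∧ a * b = b * a := by
  haveI : Fact (Nat.Prime 2) := ⟨Nat.prime_two⟩
  by_contra hc
  have hns : ¬ Group.IsSolvable M := fun hs => hna ⟨⟨IsSimpleGroup.comm_iff_isSolvable.2 hs⟩⟩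
  obtain ⟨S⟩ : Nonempty (Sylow 2 M) := inferInstance
  have h2 : 2 ∣ Nat.card M := by
    by_contra h
    exact hns (Cfsg.Agent.PF.isSolvable_of_odd _ (Nat.not_even_iff_odd.1 fun he => h he.two_dvd))
  have hO : GenDihedral.NoOdd M := fun N hN hodd =>
    hN.eq_bot_or_eq_top.resolve_right fun e => by
      rw [e, card_top] at hodd
      exact hodd.not_two_dvd_nat h2
  rcases Cfsg.Lib.BenderSE.isCyclic_or_quaternion_of_rankOne (fun ⟨a, b, h⟩ => hc ⟨a, b, h⟩) S with
    hcy | ⟨m, hm, ⟨f⟩⟩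
  · exact hns (Cfsg.Lib.CyclicInter.solvable_of_cyclic S hcy)
  obtain ⟨n, rfl⟩ : ∃ n, m = n + 1 := ⟨m - 1, by omega⟩
  obtain ⟨hZ, -, -⟩ := GWD.quaternion_quot S n f hO
  rcases (inferInstance : (center M).Normal).eq_bot_or_eq_top with e | e
  · rw [e, card_bot] at hZ; omega
  · exact hna ⟨⟨fun a b => (mem_center_iff.1 (e ▸ mem_top a : a ∈ center M) b).symm⟩⟩

variable (h : AEq G) (M : Subgroup G) [M.Normal] [IsSimpleGroup ↥M] (hna : ¬ IsMulCommutative ↥M)
include h hna

/-- The Sylow 2-subgroups of the simple normal subgroup are abelian. -/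
theorem abTwo : Walter.AbTwo ↥M := by
  haveI : Fact (Nat.Prime 2) := ⟨Nat.prime_two⟩
  obtain ⟨a, b, ha, hb, hne, hab⟩ := exists_comm_invol hna
  intro S x hx y hy
  have hsq : ∀ z ∈ (S : Subgroup ↥M), z * z = 1 := by
    intro z hz
    by_contra hz2
    obtain ⟨k, hk⟩ := IsPGroup.iff_orderOf.1 S.2 ⟨z, hz⟩
    rw [Subgroup.orderOf_mk] at hk
    have hk2 : 2 ≤ k := by
      by_contra hk'
      exact hz2 (by rw [← pow_two]; exact orderOf_dvd_iff_pow_eq_one.1 (hk ▸ (pow_dvd_pow 2 (show k ≤ 1 by omega))))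
    obtain ⟨j, rfl⟩ : ∃ j, k = 2 + j := ⟨k - 2, by omega⟩
    refine not_both h Nat.prime_two (x := ((z ^ 2 ^ j : ↥M) : G)) (a := (a : G)) (b := (b : G))
      ?_ (by rw [orderOf_coe, ha]) (by rw [orderOf_coe, hb]) (congrArg Subtype.val hab) fun hmem => ?_
    · rw [orderOf_coe, orderOf_pow_of_dvd (Nat.two_pow_pos j).ne' (hk ▸ pow_dvd_pow 2 (by omega)), hk, pow_add,
        Nat.mul_div_cancel _ (Nat.two_pow_pos j)]
    · obtain ⟨i, hi⟩ := mem_zpowers_iff.1 hmem
      have ha2 : (a : G) ^ (2 : ℤ) = 1 := orderOf_dvd_iff_zpow_eq_one.1 (by rw [orderOf_coe, ha]; norm_num)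
      rcases Int.even_or_odd' i with ⟨j', rfl | rfl⟩
      · rw [zpow_mul, ha2, one_zpow] at hi
        have hb' : orderOf (b : G) = 2 := by rw [orderOf_coe, hb]
        rw [← hi, orderOf_one] at hb'
        omega
      · rw [zpow_add, zpow_mul, ha2, one_zpow, one_mul, zpow_one] at hi
        exact hne (Subtype.ext hi)
  calc x * y = (y * y) * (x * y) * (x * x) := by rw [hsq y hy, hsq x hx, one_mul, mul_one]
    _ = y * ((y * x) * (y * x)) * x := by group
    _ = y * x := by rw [hsq _ (mul_mem hy hx), mul_one]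

omit hna in
omit [IsSimpleGroup ↥M] in
/-- The semilinear maps are transitive as soon as they induce the fusion of the subgroups of order `p ^ 2`. -/
theorem transitive_of_fusion {F : Type} [Field F] [Fintype F] {p : ℕ} [Fact p.Prime] [CharP F p]
    [Algebra (ZMod p) F] (emb : Multiplicative F →* G) (hemb : Function.Injective emb)
    (hfus : ∀ (H K : Subgroup G), H ≤ emb.range → K ≤ emb.range → H ≠ ⊥ → Nat.card H = Nat.card K →
      IsMulCommutative ↥H → IsMulCommutative ↥K → ∃ (g : G) (a : Fˣ) (σ : F ≃ₐ[ZMod p] F),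
        K = H.map (MulAut.conj g).toMonoidHom ∧
        ∀ y : F, g * emb (Multiplicative.ofAdd y) * g⁻¹ = emb (Multiplicative.ofAdd ((a : F) * σ y))) :
    Transitive (F := F) p := by
  intro A B hA hB
  have hcard : ∀ C : AddSubgroup F, Nat.card (C.toSubgroup.map emb) = Nat.card C := fun C => by
    rw [card_map_of_injective hemb]
    exact Nat.card_congr (Equiv.subtypeEquiv Multiplicative.toAdd fun _ => Iff.rfl)
  have hcomm : ∀ C : AddSubgroup F, IsMulCommutative ↥(C.toSubgroup.map emb) := fun C => ⟨⟨fun x y => by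
    obtain ⟨x', -, hx'⟩ := x.2
    obtain ⟨y', -, hy'⟩ := y.2
    refine Subtype.ext ?_
    show (x : G) * (y : G) = (y : G) * x
    rw [← hx', ← hy', ← map_mul, ← map_mul, mul_comm]⟩⟩
  obtain ⟨g, a, σ, hg, hact⟩ := hfus _ _ (map_le_range emb A.toSubgroup) (map_le_range emb B.toSubgroup)
    (fun e => by
      have h1 := hcard A
      rw [e, card_bot, hA] at h1
      exact absurd h1.symm (Nat.one_lt_pow two_ne_zero (Fact.out : p.Prime).one_lt).ne')
    (by rw [hcard, hcard, hA, hB]) (hcomm A) (hcomm B)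
  refine ⟨a, σ, fun z => ⟨fun hz => ?_, fun hz => ?_⟩⟩
  · obtain ⟨w, hw, hwe⟩ : emb (Multiplicative.ofAdd ((a : F) * σ z)) ∈ B.toSubgroup.map emb :=
      hg ▸ ⟨emb (Multiplicative.ofAdd z), ⟨Multiplicative.ofAdd z, hz, rfl⟩, hact z⟩
    rw [hemb hwe] at hw
    exact hw
  · obtain ⟨_, ⟨w, hw, rfl⟩, hwe⟩ : emb (Multiplicative.ofAdd ((a : F) * σ z)) ∈
        (A.toSubgroup.map emb).map (MulAut.conj g).toMonoidHom := hg ▸ ⟨_, hz, rfl⟩
    rw [← hact z] at hwe
    rw [hemb ((MulAut.conj g).injective hwe)] at hw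
    exact hw

/-- The binary linear fractional case. -/
theorem binary_case {F : Type} [Field F] [Fintype F] {n : ℕ} (hn : 2 ≤ n) (hF : Fintype.card F = 2 ^ n)
    (e : ↥M ≃* Matrix.ProjectiveSpecialLinearGroup (Fin 2) F) :
    (n = 2 ∨ n = 3 ∨ n = 5) ∧ Nonempty (↥M ≃* Matrix.SpecialLinearGroup (Fin 2) F) := by
  haveI : Fact (Nat.Prime 2) := ⟨Nat.prime_two⟩
  haveI : CharP F 2 := charP_of_card_eq_prime_pow hF
  letI : Algebra (ZMod 2) F := ZMod.algebra F 2
  refine ⟨degree_two 2 ?_ hF rfl hn, ⟨e.trans GenDihedral.slEquiv.symm⟩⟩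
  let emb : Multiplicative F →* G := M.subtype.comp (e.symm.toMonoidHom.comp u)
  refine transitive_of_fusion h emb (M.subtype_injective.comp (e.symm.injective.comp u_injective))
    fun H K hH hK hH1 hHK hHc hKc => ?_
  obtain ⟨g, hg⟩ := h H K hHc hKc hHK
  obtain ⟨z, hz, hz1⟩ := H.bot_or_exists_ne_one.resolve_left hH1
  obtain ⟨x, rfl⟩ := hH hz
  set α : MulAut (Matrix.ProjectiveSpecialLinearGroup (Fin 2) F) :=
    MulAut.congr e (MulAut.conjNormal g) with hα
  have hα' : ∀ w, M.subtype (e.symm (α w)) = g * M.subtype (e.symm w) * g⁻¹ := fun w => by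
    rw [hα]
    simp [MulAut.congr, MulAut.conjNormal_apply]
  obtain ⟨a, σ, hsl⟩ := aut_semilinear 2 (α := α) (x := x.toAdd) (d := n) (by omega) hF
    (fun e' => hz1 (by rw [show x = 1 from e', map_one])) (by
      obtain ⟨y, hy⟩ := hK (hg ▸ mem_map_of_mem (MulAut.conj g).toMonoidHom hz)
      refine ⟨y, e.symm.injective (M.subtype_injective ?_)⟩
      rw [hα']
      exact hy)
  refine ⟨g, a, σ, hg, fun y => ?_⟩
  show g * M.subtype (e.symm (π (uS y))) * g⁻¹ = M.subtype (e.symm (π (uS ((a : F) * σ y))))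
  rw [← hα', hsl]

end Cfsg.Lib.AbEqConj
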