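import Cfsg.Agent.AbEqConj.JR
import Cfsg.Agent.ReeAbelian.Local

/-!
Simple normal subgroups of Janko-Ree type in a group in which abelian subgroups of equal order are conjugate:
the almost simple part of the centralizer of the involution is simple.
-/

set_option autoImplicit false
set_option linter.unusedSectionVars false
set_option linter.style.haveILetI false

namespace Cfsg.Lib.AbEqConj

open Subgroup Cfsg.Lib.Known.AutPSL2

universe u

variable {G : Type u} [Group G] [Finite G] {M : Subgroup G} [M.Normal] {t : ↥M} {E E₀ : Subgroup ↥M} {F : Type}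
  [Field F] [Fintype F] (c : JRConf M t E E₀ F)
include c

/-- The degree of the field is one or three, and `E` is simple. -/
theorem JRConf.eq_E₀ {p d : ℕ} [Fact p.Prime] [CharP F p] [Algebra (ZMod p) F] (hd : 1 ≤ d)
    (hF : Fintype.card F = p ^ d) : E₀ = E ∧ d ≤ 3 := by
  classical
  obtain ⟨f⟩ := c.hyp.iso
  have hp : p.Prime := Fact.out
  haveI : Fact (Nat.Prime 3) := ⟨Nat.prime_three⟩
  have hmodq := c.modq
  rw [hF] at hmodq
  have hdodd := (EqualOrder.odd_degree hmodq).1
  have hp2 : p ≠ 2 := fun e => by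
    have := Nat.odd_iff.1 c.hyp.odd
    rw [hF, e, Nat.pow_mod, Nat.mod_self, zero_pow (by omega)] at this
    norm_num at this
  have hd3 : d ≤ 3 := degree_le p (c.transitive hd hF) hF hdodd hp2
  refine ⟨le_antisymm c.hyp.le (relIndex_eq_one.1 ?_), hd3⟩
  by_contra hm
  obtain ⟨r, hr, hrm⟩ := Nat.exists_prime_and_dvd hm
  have hmo := c.odd_relIndex
  haveI := Fact.mk hr
  -- the action of `E` on the linear fractional part
  haveI : (E₀.subgroupOf E).Normal := ⟨fun x hx e => c.hyp.norm e e.2 x hx⟩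
  set θ : ↥(E₀.subgroupOf E) ≃* Matrix.ProjectiveSpecialLinearGroup (Fin 2) F :=
    (subgroupOfEquivOfLe c.hyp.le).trans f with hθ
  let ρ : ↥E →* MulAut (Matrix.ProjectiveSpecialLinearGroup (Fin 2) F) :=
    (MulAut.congr θ).toMonoidHom.comp MulAut.conjNormal
  have hρ : ∀ (e : ↥E) z, ((f.symm (ρ e z) : ↥E₀) : ↥M) = e * ((f.symm z : ↥E₀) : ↥M) * (e : ↥M)⁻¹ := fun e z => by
    simp [ρ, hθ, MulAut.congr, MulAut.conjNormal_apply]
  have hinj : Function.Injective ρ := by
    refine (injective_iff_map_eq_one ρ).2 fun e he => Subtype.ext (c.hyp.faith e e.2 fun x hx => ?_)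
    have h := hρ e (f ⟨x, hx⟩)
    rw [he, MulAut.one_apply, MulEquiv.symm_apply_apply] at h
    exact (mul_inv_eq_iff_eq_mul.1 h.symm)
  have hI : Cfsg.Inn (Matrix.ProjectiveSpecialLinearGroup (Fin 2) F) ≤ ρ.range := by
    rintro _ ⟨z, rfl⟩
    refine ⟨⟨_, c.hyp.le (f.symm z).2⟩, MulEquiv.ext fun w => ?_⟩
    refine f.symm.injective (Subtype.ext ?_)
    rw [hρ, MulAut.conj_apply, map_mul, map_mul, map_inv]
    rfl
  have hInn : Nat.card (Cfsg.Inn (Matrix.ProjectiveSpecialLinearGroup (Fin 2) F)) = Nat.card ↥E₀ := by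
    rw [Nat.card_congr f.toEquiv]
    refine (Nat.card_congr (MonoidHom.ofInjective ?_).toEquiv).symm
    refine (injective_iff_map_eq_one _).2 fun z hz => ?_
    rw [← mem_bot, ← Cfsg.Lib.BGN.P.psl_center_eq_bot (F := F), mem_center_iff]
    intro w
    have h := DFunLike.congr_fun hz w
    rw [MulAut.conj_apply, MulAut.one_apply, mul_inv_eq_iff_eq_mul] at h
    exact h.symm
  have hcard : Nat.card ρ.range = Nat.card (Cfsg.Inn (Matrix.ProjectiveSpecialLinearGroup (Fin 2) F)) * E₀.relIndex E := by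
    rw [← Nat.card_congr (MonoidHom.ofInjective hinj).toEquiv, hInn,
      ← Nat.card_congr (subgroupOfEquivOfLe c.hyp.le).toEquiv]
    exact (card_mul_index _).symm
  obtain ⟨hrd, σ, hσ, s, hs⟩ := EqualOrder.exists_field_mem hd hF (hF ▸ c.hyp.odd) ρ.range hI hcard hmo hr hrm
  have hr2 : r ≠ 2 := fun e => Nat.not_even_iff_odd.2 hmo (even_iff_two_dvd.2 (e ▸ hrm))
  have hr3 : r = 3 := by
    have := Nat.le_of_dvd (by omega) hrd
    have := hr.two_le
    omega
  subst hr3
  have hd' : d = 3 := by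
    have := Nat.le_of_dvd (by omega) hrd
    omega
  -- `s` acts on the unipotent group as `σ`
  have hact : ∀ y : F, (s : ↥M) * emb f (Multiplicative.ofAdd y) * (s : ↥M)⁻¹ = emb f (Multiplicative.ofAdd (σ y)) :=
    fun y => by
    show (s : ↥M) * ((f.symm (π (uS y)) : ↥E₀) : ↥M) * (s : ↥M)⁻¹ = ((f.symm (π (uS (σ y))) : ↥E₀) : ↥M)
    rw [← hρ, hs, fieldAut_u]
  have hσ1 : σ ≠ 1 := fun e => by rw [e, orderOf_one] at hσ; omega
  have hso : orderOf (s : ↥M) = 3 := by
    rw [orderOf_coe, ← orderOf_injective ρ hinj, hs]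
    refine orderOf_eq_prime (by rw [← map_pow, ← hσ, pow_orderOf_eq_one, map_one]) fun e => hσ1 ?_
    refine AlgEquiv.ext fun x => uS_injective_π ?_
    rw [← fieldAut_u p σ x, e]
    rfl
  by_cases hp3 : p = 3
  · subst hp3
    obtain ⟨y, hy⟩ : ∃ y : F, y + σ y + σ (σ y) ≠ 0 := by
      by_contra! h
      obtain ⟨w, hw⟩ : ∃ w : F, σ (σ w) ≠ w := by
        by_contra! h2
        have : σ ^ 2 = 1 := AlgEquiv.ext fun x => by rw [pow_two, AlgEquiv.mul_apply, h2]; rfl
        have := Nat.le_of_dvd two_pos (orderOf_dvd_of_pow_eq_one this)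
        omega
      obtain ⟨y, hy⟩ : ∃ y : F, σ y ≠ y := by
        by_contra! h2
        exact hσ1 (AlgEquiv.ext h2)
      have e1 := h (w * y)
      have e2 := h y
      have e3 := h w
      have e4 := h 1
      simp only [map_mul] at e1
      simp only [map_one] at e4
      have : (w - σ (σ w)) * (y - σ y) = 0 := by
        linear_combination e1 - σ (σ w) * e2 - σ y * e3 + σ (σ w) * σ y * e4
      rcases mul_eq_zero.1 this with h1 | h1
      · exact hw (sub_eq_zero.1 h1).symm
      · exact hy (sub_eq_zero.1 h1).symm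
    set v : ↥M := emb f (Multiplicative.ofAdd y) * s with hv
    have hs3 : (s : ↥M) ^ 3 = 1 := by rw [← hso, pow_orderOf_eq_one]
    have hv3 : v ^ 3 = emb f (Multiplicative.ofAdd (y + σ y + σ (σ y))) := by
      rw [hv, pow_three]
      calc emb f (Multiplicative.ofAdd y) * s * (emb f (Multiplicative.ofAdd y) * s * (emb f (Multiplicative.ofAdd y) * s))
          = emb f (Multiplicative.ofAdd y) * (s * emb f (Multiplicative.ofAdd y) * (s : ↥M)⁻¹) *
              (s * (s * emb f (Multiplicative.ofAdd y) * (s : ↥M)⁻¹) * (s : ↥M)⁻¹) * ((s : ↥M) ^ 3) := by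
            rw [pow_three]; group
        _ = _ := by rw [hact, hact, hs3, mul_one, ofAdd_add, ofAdd_add, map_mul, map_mul]
    have hexp : ∀ x : F, emb f (Multiplicative.ofAdd x) ^ 3 = 1 := fun x => by
      rw [← map_pow, ← ofAdd_nsmul, nsmul_eq_mul, CharP.cast_eq_zero, zero_mul, ofAdd_zero, map_one]
    have hne : ∀ x : F, x ≠ 0 → orderOf (emb f (Multiplicative.ofAdd x)) = 3 := fun x hx =>
      orderOf_eq_prime (hexp x) fun e => hx (Multiplicative.ofAdd.injective (emb_injective f (e.trans (map_one _).symm)))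
    have hvo : orderOf v = 3 ^ 2 := orderOf_eq_prime_pow (by
        rw [pow_one, hv3]
        exact fun e => hy (Multiplicative.ofAdd.injective (emb_injective f (e.trans (map_one _).symm))))
      (by rw [pow_two, pow_mul, hv3, hexp])
    obtain ⟨w, hw⟩ : ∃ w : F, σ w ≠ w := by
      by_contra! h2
      exact hσ1 (AlgEquiv.ext h2)
    refine not_both c.aeq Nat.prime_three (x := (v : G)) (a := ((emb f (Multiplicative.ofAdd (1 : F)) : ↥M) : G))
      (b := ((emb f (Multiplicative.ofAdd w) : ↥M) : G)) (by rw [orderOf_coe, hvo]) (by rw [orderOf_coe, hne _ one_ne_zero])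
      (by rw [orderOf_coe, hne w fun e => hw (by rw [e, map_zero])])
      ((((Commute.all _ _).map (emb f))).map M.subtype) fun hmem => ?_
    obtain ⟨i, hi⟩ := mem_zpowers_iff.1 hmem
    have hi' : emb f (Multiplicative.ofAdd ((i : F) * 1)) = emb f (Multiplicative.ofAdd w) := by
      refine M.subtype_injective (Eq.trans ?_ hi)
      rw [mul_one, show (i : F) = i • (1 : F) by simp, ofAdd_zsmul, map_zpow, map_zpow]
      rfl
    have hw1 := Multiplicative.ofAdd.injective (emb_injective f hi')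
    exact hw (by rw [← hw1, mul_one, map_intCast])
  · have hE3 : 3 ∣ Nat.card ↥E₀ := by
      refine (Nat.Coprime.dvd_mul_left (by norm_num : Nat.Coprime 3 2)).1 ?_
      rw [c.card_E₀]
      obtain ⟨k, hk⟩ : ∃ k, Fintype.card F = 3 * k ∨ Fintype.card F = 3 * k + 1 ∨ Fintype.card F = 3 * k + 2 :=
        ⟨Fintype.card F / 3, by omega⟩
      rcases hk with hk | hk | hk
      · exact dvd_mul_of_dvd_left ⟨k, hk⟩ _
      · refine dvd_mul_of_dvd_right ⟨3 * k * k + 2 * k, ?_⟩ _
        rw [hk, show (3 * k + 1) ^ 2 = 3 * (3 * k * k + 2 * k) + 1 by ring, Nat.add_sub_cancel]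
      · refine dvd_mul_of_dvd_right ⟨3 * k * k + 4 * k + 1, ?_⟩ _
        rw [hk, show (3 * k + 2) ^ 2 = 3 * (3 * k * k + 4 * k + 1) + 1 by ring, Nat.add_sub_cancel]
    have hbig : 13 ≤ Fintype.card F := by
      rw [hF, hd']
      exact le_trans (by norm_num : 13 ≤ 3 ^ 3) (Nat.pow_le_pow_left (by have := hp.two_le; omega) 3)
    have hdvd : 3 ∣ Fintype.card F ^ 2 - 1 := by
      have h := hE3.mul_left 2
      rw [c.card_E₀] at h
      refine Nat.Coprime.dvd_of_dvd_mul_left ?_ h
      rw [hF]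
      exact ((Nat.coprime_primes Nat.prime_three hp).2 (Ne.symm hp3)).pow_right d
    obtain ⟨g, hg⟩ := EqualOrder.exists_orderOf_sq (F := F) (r := 3) (k := 1) (p := p) Nat.prime_three (by norm_num)
      (by rw [hF, hd', one_mul]) c.hyp.odd hbig hdvd
    -- an element of order three in `E₀` centralizing `s`
    obtain ⟨R, hR⟩ := (IsPGroup.of_card (G := ↥(zpowers s)) (p := 3) (n := 1)
      (by rw [Nat.card_zpowers, ← orderOf_coe, hso, pow_one])).exists_le_sylow
    set R₀ : Subgroup ↥E := (R : Subgroup ↥E) ⊓ E₀.subgroupOf E with hR₀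
    have hR₀ne : R₀ ≠ ⊥ := fun e => by
      have h2 : Nat.card ↥(R : Subgroup ↥E) ∣ (E₀.subgroupOf E).index := by
        have hinjR : Function.Injective ((QuotientGroup.mk' (E₀.subgroupOf E)).comp (R : Subgroup ↥E).subtype) :=
          (injective_iff_map_eq_one _).2 fun x hx => Subtype.ext
            (mem_bot.1 (e ▸ ⟨x.2, (QuotientGroup.eq_one_iff _).1 hx⟩ : ((x : ↥E)) ∈ (⊥ : Subgroup ↥E)))
        rw [index_eq_card]
        exact card_dvd_of_injective _ hinjR
      have h1 := R.card_eq_multiplicity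
      rw [h1] at h2
      have hidx : (E₀.subgroupOf E).index ≠ 0 := index_ne_zero_of_finite
      have h3 := (Nat.Prime.pow_dvd_iff_le_factorization Nat.prime_three hidx).1 h2
      rw [← (E₀.subgroupOf E).card_mul_index, Nat.factorization_mul Nat.card_pos.ne' hidx, Finsupp.add_apply,
        Nat.card_congr (subgroupOfEquivOfLe c.hyp.le).toEquiv] at h3
      have := Nat.prime_three.factorization_pos_of_dvd Nat.card_pos.ne' hE3
      omega
    have hsN : s ∈ normalizer (R₀ : Set ↥E) := mem_normalizer_fintype fun x hx =>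
      ⟨(R : Subgroup ↥E).mul_mem ((R : Subgroup ↥E).mul_mem (hR (mem_zpowers s)) hx.1) ((R : Subgroup ↥E).inv_mem (hR (mem_zpowers s))),
        ‹(E₀.subgroupOf E).Normal›.conj_mem x hx.2 s⟩
    have hmod := ReeAb.card_modEq_fixed (r := 3) (show orderOf s = 3 by rw [← orderOf_coe, hso]) hsN
    obtain ⟨j, hj⟩ := IsPGroup.iff_card.1 (R.2.to_le (inf_le_left : R₀ ≤ (R : Subgroup ↥E)))
    have hfix : 3 ∣ Nat.card ↥(R₀ ⊓ centralizer ({s} : Set ↥E)) := by
      have hj0 : j ≠ 0 := fun e => hR₀ne (card_eq_one.1 (by rw [hj, e, pow_zero]))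
      exact (Nat.modEq_zero_iff_dvd).1 (hmod.symm.trans (Nat.modEq_zero_iff_dvd.2 (hj ▸ dvd_pow_self 3 hj0)))
    obtain ⟨⟨z, hz'⟩, hz⟩ := exists_prime_orderOf_dvd_card' (G := ↥(R₀ ⊓ centralizer ({s} : Set ↥E))) 3 hfix
    rw [Subgroup.orderOf_mk] at hz
    refine not_both c.aeq Nat.prime_three (x := (((f.symm g : ↥E₀) : ↥M) : G)) (a := ((z : ↥M) : G)) (b := ((s : ↥M) : G))
      (by rw [orderOf_coe, orderOf_coe, MulEquiv.orderOf_eq, hg]) (by rw [orderOf_coe, orderOf_coe, hz])
      (by rw [orderOf_coe, hso])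
      (((show Commute z s from mem_centralizer_singleton_iff.1 (mem_inf.1 hz').2).map E.subtype).map M.subtype) fun hmem => ?_
    obtain ⟨i, hi⟩ := mem_zpowers_iff.1 hmem
    have hs0 : (s : ↥M) ∈ E₀ := by
      rw [show (s : ↥M) = (z : ↥M) ^ i from M.subtype_injective hi.symm]
      exact zpow_mem (mem_subgroupOf.1 (mem_inf.1 (mem_inf.1 hz').1).2) i
    have hin : fieldAut p σ ∈ Cfsg.Inn (Matrix.ProjectiveSpecialLinearGroup (Fin 2) F) := by
      refine ⟨f ⟨(s : ↥M), hs0⟩, MulEquiv.ext fun w => f.symm.injective (Subtype.ext ?_)⟩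
      rw [← hs, hρ, MulAut.conj_apply, map_mul, map_mul, map_inv, MulEquiv.symm_apply_apply]
      rfl
    obtain ⟨k, hk⟩ := hin
    exact hσ1 (inner_imp p (a := 1) (g := k) (by rw [map_one, one_mul, hk])).1

end Cfsg.Lib.AbEqConj
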