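import Cfsg.Agent.AbEqConj.Basic
import Cfsg.Agent.EqualOrder.Socle
import Cfsg.Agent.EqualOrder.PSLCase
import Cfsg.Agent.AbCentMax.Final
import Cfsg.Agent.Components.BGNP.PSL

/-!
Simple normal subgroups of Janko-Ree type in a group in which abelian subgroups of equal order are conjugate:
the fusion in the unipotent group, and the degree of the field.
-/

set_option autoImplicit false
set_option linter.unusedSectionVars false
set_option linter.style.haveILetI false

namespace Cfsg.Lib.AbEqConj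

open Subgroup Cfsg.Lib.Known.AutPSL2
open scoped commutatorElement

universe u

variable {G : Type u} [Group G] [Finite G]

/-- The configuration. -/
structure JRConf (M : Subgroup G) [M.Normal] (t : ↥M) (E E₀ : Subgroup ↥M) (F : Type) [Field F] [Fintype F] :
    Prop where
  aeq : AEq G
  simple : IsSimpleGroup ↥M
  nab : ¬ IsMulCommutative ↥M
  card8 : ∀ S : Sylow 2 ↥M, Nat.card ↥(S : Subgroup ↥M) = 8
  ab : ∀ S : Sylow 2 ↥M, IsMulCommutative ↥(S : Subgroup ↥M)
  five : 5 ≤ Fintype.card F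
  modq : Fintype.card F % 8 = 3 ∨ Fintype.card F % 8 = 5
  hyp : AbCentMax.Hyp t E E₀ F

/-- The unipotent elements in the group. -/
noncomputable def emb {L : Type u} [Group L] {E₀ : Subgroup L} {F : Type} [Field F]
    (f : ↥E₀ ≃* Matrix.ProjectiveSpecialLinearGroup (Fin 2) F) : Multiplicative F →* L :=
  E₀.subtype.comp (f.symm.toMonoidHom.comp u)

variable {M : Subgroup G} [M.Normal] {t : ↥M} {E E₀ : Subgroup ↥M} {F : Type} [Field F] [Fintype F]
  (c : JRConf M t E E₀ F)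
include c

theorem JRConf.card_E₀ : 2 * Nat.card ↥E₀ = Fintype.card F * (Fintype.card F ^ 2 - 1) := by
  obtain ⟨f⟩ := c.hyp.iso
  have hc := Cfsg.Lib.Classical.SmallPSL.card_psl (F := F) rfl
  rw [Nat.gcd_eq_left (Nat.dvd_of_mod_eq_zero (by have := Nat.odd_iff.1 c.hyp.odd; have := c.five; omega))] at hc
  rw [Nat.card_congr f.toEquiv]
  exact hc

theorem JRConf.four_dvd : 4 ∣ Nat.card ↥E₀ := by
  obtain ⟨q, hq⟩ : ∃ q, Fintype.card F = q := ⟨_, rfl⟩
  have h1 := c.card_E₀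
  have h2 := Nat.odd_iff.1 c.hyp.odd
  rw [hq] at h1 h2
  obtain ⟨s, rfl⟩ : ∃ s, q = 2 * s + 1 := ⟨q / 2, by omega⟩
  obtain ⟨j, hj⟩ := Nat.even_mul_succ_self s
  rw [show (2 * s + 1) ^ 2 = 4 * (s * (s + 1)) + 1 by ring, Nat.add_sub_cancel, hj,
    show (2 * s + 1) * (4 * (j + j)) = 2 * (4 * ((2 * s + 1) * j)) by ring] at h1
  exact ⟨(2 * s + 1) * j, Nat.eq_of_mul_eq_mul_left two_pos h1⟩

theorem JRConf.card_cent : Nat.card ↥(centralizer ({t} : Set ↥M)) = 2 * Nat.card ↥E := by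
  classical
  have hmem : ∀ (b : Bool) (e : ↥E), (cond b t 1) * (e : ↥M) ∈ centralizer ({t} : Set ↥M) := fun b e => by
    refine mem_centralizer_singleton_iff.2 ?_
    cases b
    · simpa using (c.hyp.comm _ e.2).eq.symm
    · exact ((Commute.refl t).mul_left (c.hyp.comm _ e.2).symm).eq
  rw [show 2 * Nat.card ↥E = Nat.card (Bool × ↥E) by rw [Nat.card_prod, Nat.card_eq_fintype_card (α := Bool)]; rfl]
  refine (Nat.card_eq_of_bijective (fun p : Bool × ↥E => (⟨_, hmem p.1 p.2⟩ : ↥(centralizer ({t} : Set ↥M))))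
    ⟨?_, ?_⟩).symm
  · rintro ⟨a, x⟩ ⟨b, y⟩ e
    have e' : cond a t 1 * (x : ↥M) = cond b t 1 * (y : ↥M) := congrArg Subtype.val e
    rcases a <;> rcases b <;> simp only [cond_true, cond_false, one_mul] at e'
    · exact Prod.ext rfl (Subtype.ext e')
    · exfalso
      have hh : t = (x : ↥M) * (y : ↥M)⁻¹ := by rw [e']; group
      exact c.hyp.disj (hh ▸ mul_mem x.2 (inv_mem y.2))
    · exfalso
      have hh : t = (y : ↥M) * (x : ↥M)⁻¹ := by rw [← e']; group
      exact c.hyp.disj (hh ▸ mul_mem y.2 (inv_mem x.2))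
    · exact Prod.ext rfl (Subtype.ext (mul_left_cancel e'))
  · rintro ⟨x, hx⟩
    obtain ⟨e, he, r | r⟩ := c.hyp.split x (mem_centralizer_singleton_iff.1 hx)
    · exact ⟨(false, ⟨e, he⟩), Subtype.ext (by simp [r])⟩
    · exact ⟨(true, ⟨e, he⟩), Subtype.ext (by simp [r])⟩

theorem JRConf.exists_invol : ∃ a : ↥M, a ∈ E₀ ∧ orderOf a = 2 :=
  EqualOrder.exists_involution (M := E₀) ((show 2 ∣ 4 by norm_num).trans c.four_dvd)

theorem JRConf.odd_relIndex : Odd (E₀.relIndex E) := by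
  haveI : Fact (Nat.Prime 2) := ⟨Nat.prime_two⟩
  refine Nat.not_even_iff_odd.1 fun he => ?_
  have h16 : 2 ^ 4 ∣ Nat.card ↥M := by
    refine Dvd.dvd.trans ?_ (card_subgroup_dvd_card (centralizer ({t} : Set ↥M)))
    rw [c.card_cent]
    have hc : Nat.card ↥E = Nat.card ↥E₀ * E₀.relIndex E := by
      rw [← Nat.card_congr (subgroupOfEquivOfLe c.hyp.le).toEquiv]
      exact (card_mul_index _).symm
    rw [hc]
    rw [show (2 : ℕ) ^ 4 = 2 * (4 * 2) by norm_num]
    exact Nat.mul_dvd_mul (dvd_refl 2) (Nat.mul_dvd_mul c.four_dvd he.two_dvd)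
  obtain ⟨S⟩ : Nonempty (Sylow 2 ↥M) := inferInstance
  have := S.pow_dvd_card_of_pow_dvd_card h16
  rw [c.card8 S] at this
  norm_num at this

theorem JRConf.mem_E₀_of_order {e : ↥M} (he : e ∈ E) (hn : (orderOf e).Coprime (E₀.relIndex E)) : e ∈ E₀ := by
  haveI : (E₀.subgroupOf E).Normal := ⟨fun x hx w => c.hyp.norm w w.2 x hx⟩
  have h1 : (QuotientGroup.mk' (E₀.subgroupOf E) ⟨e, he⟩) = 1 := orderOf_eq_one_iff.1
    (Nat.eq_one_of_dvd_coprimes hn ((orderOf_map_dvd _ (⟨e, he⟩ : ↥E)).trans (by rw [Subgroup.orderOf_mk]))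
      (orderOf_dvd_natCard _))
  exact mem_subgroupOf.1 ((QuotientGroup.eq_one_iff _).1 h1)

theorem JRConf.comm_mem {x y : ↥M} (hx : Commute x t) (hy : Commute y t) : ⁅x, y⁆ ∈ E := by
  obtain ⟨e, he, hxe⟩ := c.hyp.split x hx
  obtain ⟨f, hf, hyf⟩ := c.hyp.split y hy
  have hte := c.hyp.comm e he
  have htf := c.hyp.comm f hf
  have key : ⁅x, y⁆ = ⁅e, f⁆ := by
    rcases hxe with rfl | rfl <;> rcases hyf with rfl | rfl <;> simp only [commutatorElement_def]
    · rw [_root_.mul_inv_rev, c.hyp.t_inv, show x * (t * f) * x⁻¹ * (f⁻¹ * t) = x * t * f * x⁻¹ * f⁻¹ * t by group,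
        hte.symm.eq, show t * x * f * x⁻¹ * f⁻¹ * t = t * (x * f * x⁻¹ * f⁻¹) * t⁻¹ by rw [c.hyp.t_inv]; group,
        (((hte.mul_right htf).mul_right hte.inv_right).mul_right htf.inv_right).eq, mul_inv_cancel_right]
    · rw [_root_.mul_inv_rev, c.hyp.t_inv, show t * e * y * (e⁻¹ * t) * y⁻¹ = t * e * y * e⁻¹ * (t * y⁻¹) by group,
        htf.inv_right.eq, show t * e * y * e⁻¹ * (y⁻¹ * t) = t * (e * y * e⁻¹ * y⁻¹) * t⁻¹ by rw [c.hyp.t_inv]; group,
        (((hte.mul_right htf).mul_right hte.inv_right).mul_right htf.inv_right).eq, mul_inv_cancel_right]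
    · rw [_root_.mul_inv_rev, _root_.mul_inv_rev, c.hyp.t_inv]
      calc t * e * (t * f) * (e⁻¹ * t) * (f⁻¹ * t) = t * (e * t) * f * e⁻¹ * (t * f⁻¹) * t := by group
        _ = t * (t * e) * f * e⁻¹ * (f⁻¹ * t) * t := by rw [hte.eq, htf.inv_right.eq]
        _ = e * f * e⁻¹ * f⁻¹ := by
          rw [← mul_assoc t t, c.hyp.tt, mul_assoc _ (f⁻¹ * t), mul_assoc f⁻¹ t, c.hyp.tt]; group
  rw [key, commutatorElement_def]
  exact mul_mem (mul_mem (mul_mem he hf) (inv_mem he)) (inv_mem hf)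

/-- The centraliser of the involution normalises the linear fractional part. -/
theorem JRConf.conj_mem {g : G} (hg : Commute g (t : G)) {x : ↥M} (hx : x ∈ E₀) :
    (MulAut.conjNormal g : MulAut ↥M) x ∈ E₀ := by
  set φ : MulAut ↥M := MulAut.conjNormal g with hφ
  obtain ⟨f⟩ := c.hyp.iso
  haveI : IsSimpleGroup ↥E₀ := by
    haveI : IsSimpleGroup (Matrix.ProjectiveSpecialLinearGroup (Fin 2) F) :=
      Matrix.ProjectiveSpecialLinearGroup.rank_two_simple (by rw [Nat.card_eq_fintype_card]; have := c.five; omega)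
    haveI : Nontrivial ↥E₀ := f.toEquiv.nontrivial
    exact IsSimpleGroup.isSimpleGroup_of_surjective f.symm.toMonoidHom f.symm.surjective
  have hφt : φ t = t := Subtype.ext (by rw [hφ, MulAut.conjNormal_apply, hg.eq, mul_inv_cancel_right])
  obtain ⟨a, ha, ha2⟩ := c.exists_invol
  have hperf : commutator ↥E₀ = ⊤ := by
    refine (IsSimpleGroup.eq_bot_or_eq_top_of_normal _ inferInstance).resolve_left fun hb => ?_
    have hcomm : ∀ a b : ↥E₀, a * b = b * a := fun a b =>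
      commutatorElement_eq_one_iff_mul_comm.1 (mem_bot.1 (hb ▸ commutator_mem_commutator (mem_top a) (mem_top b)))
    have hz := (mem_center_iff.2 fun z => hcomm z ⟨a, ha⟩ : (⟨a, ha⟩ : ↥E₀) ∈ center ↥E₀)
    have hc1 : f ⟨a, ha⟩ ∈ center (Matrix.ProjectiveSpecialLinearGroup (Fin 2) F) := mem_center_iff.2 fun z => by
      have := congrArg f (mem_center_iff.1 hz (f.symm z))
      simpa using this
    rw [Cfsg.Lib.BGN.P.psl_center_eq_bot, mem_bot, MulEquiv.map_eq_one_iff] at hc1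
    rw [show a = 1 from congrArg Subtype.val hc1, orderOf_one] at ha2
    omega
  have hK : E₀.map φ.toMonoidHom ≤ E := by
    have h1 : (E₀.map φ.toMonoidHom) = ⁅E₀.map φ.toMonoidHom, E₀.map φ.toMonoidHom⁆ := by
      rw [← map_commutator]
      congr 1
      have h2 := congrArg (Subgroup.map E₀.subtype) hperf
      rw [_root_.commutator_def, map_commutator, ← MonoidHom.range_eq_map, range_subtype] at h2
      exact h2.symm
    rw [h1, commutator_le]
    rintro _ ⟨a, ha, rfl⟩ _ ⟨b, hb, rfl⟩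
    refine c.comm_mem ?_ ?_
    · have := ((c.hyp.comm a (c.hyp.le ha)).symm).map φ.toMonoidHom
      simpa [hφt] using this
    · have := ((c.hyp.comm b (c.hyp.le hb)).symm).map φ.toMonoidHom
      simpa [hφt] using this
  have hφa : φ a ∈ E₀ := c.mem_E₀_of_order (hK ⟨a, ha, rfl⟩) (by
    rw [MulEquiv.orderOf_eq, ha2]; exact Nat.coprime_two_left.2 c.odd_relIndex)
  haveI hn : (((E₀).comap φ.toMonoidHom).subgroupOf E₀).Normal := ⟨fun y hy w => by
    rw [mem_subgroupOf, mem_comap] at hy ⊢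
    push_cast
    rw [map_mul, map_mul, map_inv]
    exact c.hyp.norm _ (hK ⟨w, w.2, rfl⟩) _ hy⟩
  rcases IsSimpleGroup.eq_bot_or_eq_top_of_normal _ hn with e | e
  · exfalso
    have : (⟨a, ha⟩ : ↥E₀) ∈ ((E₀).comap φ.toMonoidHom).subgroupOf E₀ := hφa
    rw [e, mem_bot] at this
    rw [show a = 1 from congrArg Subtype.val this, orderOf_one] at ha2
    omega
  · exact subgroupOf_eq_top.1 e hx

omit c in
theorem emb_injective (f : ↥E₀ ≃* Matrix.ProjectiveSpecialLinearGroup (Fin 2) F) :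
    Function.Injective (emb f) :=
  E₀.subtype_injective.comp (f.symm.injective.comp u_injective)

theorem JRConf.emb_comm (f : ↥E₀ ≃* Matrix.ProjectiveSpecialLinearGroup (Fin 2) F) (x : Multiplicative F) :
    Commute t (emb f x) :=
  c.hyp.comm _ (c.hyp.le (f.symm (u x)).2)

/-- A 2-element centralizing `t` and a nontrivial unipotent element is in `⟨t⟩`. -/
theorem JRConf.two_cent (f : ↥E₀ ≃* Matrix.ProjectiveSpecialLinearGroup (Fin 2) F) {x : Multiplicative F}
    (hx : x ≠ 1) {y : ↥M} (hy2 : ∃ k, orderOf y = 2 ^ k) (hyt : Commute y t) (hyx : Commute y (emb f x)) :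
    y = 1 ∨ y = t := by
  obtain ⟨k, hk⟩ := hy2
  obtain ⟨e, he, r⟩ := c.hyp.split y hyt
  have heq : e = y ∨ e = t * y := by
    rcases r with r | r
    · exact Or.inl r.symm
    · exact Or.inr (by rw [r, ← mul_assoc, c.hyp.tt, one_mul])
  have hwx : Commute e (emb f x) := by
    rcases heq with h | h <;> rw [h]
    · exact hyx
    · exact (c.emb_comm f x).mul_left hyx
  have hpow : e ^ (2 ^ (k + 1)) = 1 := by
    have hy : y ^ (2 ^ (k + 1)) = 1 := orderOf_dvd_iff_pow_eq_one.1 (hk ▸ pow_dvd_pow 2 (by omega))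
    have ht : t ^ (2 ^ (k + 1)) = 1 := orderOf_dvd_iff_pow_eq_one.1 (by
      rw [c.hyp.ord]; exact dvd_pow_self 2 (Nat.succ_ne_zero k))
    rcases heq with h | h <;> rw [h]
    · exact hy
    · rw [(hyt.symm).mul_pow, hy, ht, one_mul]
  obtain ⟨j, -, hj⟩ := (Nat.dvd_prime_pow Nat.prime_two).1 (orderOf_dvd_of_pow_eq_one hpow)
  have he0 : e ∈ E₀ := c.mem_E₀_of_order he (by rw [hj]; exact (Nat.coprime_two_left.2 c.odd_relIndex).pow_left j)
  have hc : Commute (f ⟨e, he0⟩) (u x) := by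
    have h1 : Commute (⟨e, he0⟩ : ↥E₀) (f.symm (u x)) := Subtype.ext hwx.eq
    simpa using h1.map f.toMonoidHom
  obtain ⟨a, ha⟩ := EqualOrder.mem_u_range_of_commute hx hc
  have he1 : e = 1 := by
    have h2 : orderOf e ∣ Fintype.card F := by
      rw [← show orderOf (f ⟨e, he0⟩) = orderOf e by rw [MulEquiv.orderOf_eq, Subgroup.orderOf_mk], ← ha,
        orderOf_injective _ (u_injective (F := F)), ← Nat.card_eq_fintype_card,
        ← Nat.card_congr (Multiplicative.toAdd (α := F))]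
      exact orderOf_dvd_natCard a
    rw [hj] at h2
    exact orderOf_eq_one_iff.1 (hj.trans (Nat.eq_one_of_dvd_coprimes
      ((Nat.coprime_two_left.2 c.hyp.odd).pow_left j) dvd_rfl h2))
  subst he1
  rcases r with r | r
  · exact Or.inl r
  · exact Or.inr (by rw [r, mul_one])

/-- A Sylow 2-subgroup of the centralizer of unipotent elements is `⟨t⟩`. -/
theorem JRConf.cent_sylow (f : ↥E₀ ≃* Matrix.ProjectiveSpecialLinearGroup (Fin 2) F) {x : Multiplicative F}
    (hx : x ≠ 1) {C : Subgroup ↥M} (hC : C ≤ centralizer ({emb f x} : Set ↥M)) (htC : t ∈ C) (S : Sylow 2 ↥C)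
    (htS : (⟨t, htC⟩ : ↥C) ∈ S) : ∀ y ∈ (S : Subgroup ↥C), y = 1 ∨ y = ⟨t, htC⟩ := by
  intro y hy
  obtain ⟨T, hT⟩ := (S.2.map C.subtype).exists_le_sylow
  have hty : Commute (y : ↥M) t := congrArg Subtype.val ((c.ab T).is_comm.comm
    ⟨(y : ↥M), hT ⟨y, hy, rfl⟩⟩ ⟨t, hT ⟨⟨t, htC⟩, htS, rfl⟩⟩)
  obtain ⟨k, hk⟩ := IsPGroup.iff_orderOf.1 S.2 ⟨y, hy⟩
  rw [Subgroup.orderOf_mk] at hk
  rcases c.two_cent f hx ⟨k, by rw [orderOf_coe]; exact hk⟩ hty
    (mem_centralizer_singleton_iff.1 (hC y.2)) with e | e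
  · exact Or.inl (Subtype.ext e)
  · exact Or.inr (Subtype.ext e)

/-- An element moving a nontrivial unipotent element into the unipotent group may be corrected into the
centralizer of `t`. -/
theorem JRConf.correct (f : ↥E₀ ≃* Matrix.ProjectiveSpecialLinearGroup (Fin 2) F) {x : Multiplicative F}
    (hx : x ≠ 1) {C : Subgroup ↥M} (hC : C ≤ centralizer ({emb f x} : Set ↥M)) (htC : t ∈ C) {g : G}
    (hgC : (MulAut.conjNormal g : MulAut ↥M) t ∈ C) :
    ∃ k ∈ C, Commute ((k : G) * g) (t : G) := by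
  haveI : Fact (Nat.Prime 2) := ⟨Nat.prime_two⟩
  set s : ↥M := (MulAut.conjNormal g : MulAut ↥M) t with hs
  have hso : orderOf s = 2 := by rw [hs, MulEquiv.orderOf_eq, c.hyp.ord]
  obtain ⟨S, hS⟩ := (IsPGroup.of_card (G := ↥(zpowers (⟨t, htC⟩ : ↥C))) (p := 2) (n := 1)
    (by rw [Nat.card_zpowers, Subgroup.orderOf_mk, c.hyp.ord, pow_one])).exists_le_sylow
  obtain ⟨S', hS'⟩ := (IsPGroup.of_card (G := ↥(zpowers (⟨s, hgC⟩ : ↥C))) (p := 2) (n := 1)
    (by rw [Nat.card_zpowers, Subgroup.orderOf_mk, hso, pow_one])).exists_le_sylow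
  obtain ⟨k, hk⟩ := MulAction.exists_smul_eq ↥C S' S
  have hmem : k * ⟨s, hgC⟩ * k⁻¹ ∈ (S : Subgroup ↥C) := by
    rw [← hk, Sylow.coe_subgroup_smul]
    exact ⟨_, hS' (mem_zpowers _), rfl⟩
  refine ⟨k, k.2, ?_⟩
  rcases c.cent_sylow f hx hC htC S (hS (mem_zpowers _)) _ hmem with e | e
  · exfalso
    rw [mul_inv_eq_one, mul_eq_left] at e
    have h2 := congrArg Subtype.val e
    rw [show s = 1 from h2, orderOf_one] at hso
    omega
  · have h2 : ((k : ↥M) : G) * (g * (t : G) * g⁻¹) * ((k : ↥M) : G)⁻¹ = t := by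
      rw [← MulAut.conjNormal_apply g t, ← hs]
      exact congrArg (fun z : ↥C => ((z : ↥M) : G)) e
    show ((k : ↥M) : G) * g * t = t * (((k : ↥M) : G) * g)
    calc ((k : ↥M) : G) * g * t = ((k : ↥M) : G) * (g * (t : G) * g⁻¹) * ((k : ↥M) : G)⁻¹ * (((k : ↥M) : G) * g) := by group
      _ = t * (((k : ↥M) : G) * g) := by rw [h2]

/-- The automorphism of `PSL(2, q)` induced by an element centralizing `t`. -/
theorem JRConf.exists_aut (f : ↥E₀ ≃* Matrix.ProjectiveSpecialLinearGroup (Fin 2) F) {g : G}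
    (hg : Commute g (t : G)) :
    ∃ α : MulAut (Matrix.ProjectiveSpecialLinearGroup (Fin 2) F),
      ∀ z, g * (((f.symm z : ↥E₀) : ↥M) : G) * g⁻¹ = (((f.symm (α z) : ↥E₀) : ↥M) : G) := by
  let φ : ↥E₀ →* ↥E₀ :=
    (((MulAut.conjNormal g : MulAut ↥M).toMonoidHom.comp E₀.subtype).codRestrict E₀ fun x => c.conj_mem hg x.2)
  have hφ : Function.Injective φ := fun a b h =>
    Subtype.ext ((MulAut.conjNormal g : MulAut ↥M).injective (congrArg Subtype.val h :))
  refine ⟨MulAut.congr f (MulEquiv.ofBijective φ ⟨hφ, Finite.surjective_of_injective hφ⟩), fun z => ?_⟩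
  simp [MulAut.congr, φ, MulAut.conjNormal_apply]

/-- The semilinear maps are transitive. -/
theorem JRConf.transitive {p d : ℕ} [Fact p.Prime] [CharP F p] [Algebra (ZMod p) F] (hd : 1 ≤ d)
    (hF : Fintype.card F = p ^ d) : Transitive (F := F) p := by
  obtain ⟨f⟩ := c.hyp.iso
  refine transitive_of_fusion c.aeq (M.subtype.comp (emb f)) (M.subtype_injective.comp (emb_injective f))
    fun H K hH hK hH1 hHK hHc hKc => ?_
  obtain ⟨g, hg⟩ := c.aeq H K hHc hKc hHK
  obtain ⟨z, hz, hz1⟩ := H.bot_or_exists_ne_one.resolve_left hH1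
  obtain ⟨x₀, hx₀⟩ := hH hz
  obtain ⟨x, hx⟩ := hK (hg ▸ mem_map_of_mem (MulAut.conj g).toMonoidHom hz)
  have hx1 : x ≠ 1 := fun e => by
    rw [e, map_one] at hx
    exact hz1 ((MulAut.conj g).injective (hx.symm.trans (map_one (MulAut.conj g)).symm))
  set C : Subgroup ↥M := centralizer ((K.subgroupOf M : Subgroup ↥M) : Set ↥M) with hCdef
  have hCx : C ≤ centralizer ({emb f x} : Set ↥M) := fun k hk => mem_centralizer_singleton_iff.2
    (mem_centralizer_iff.1 hk _ (by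
      rw [SetLike.mem_coe, mem_subgroupOf]
      rw [show ((emb f x : ↥M) : G) = _ from hx, hg]
      exact mem_map_of_mem _ hz)).symm
  have htC : t ∈ C := mem_centralizer_iff.2 fun w hw => by
    obtain ⟨y, hy⟩ := hK (mem_subgroupOf.1 hw)
    rw [show w = emb f y from Subtype.ext hy.symm]
    exact (c.emb_comm f y).symm.eq
  have hgC : (MulAut.conjNormal g : MulAut ↥M) t ∈ C := mem_centralizer_iff.2 fun w hw => by
    obtain ⟨w', hw', e⟩ : (w : G) ∈ H.map (MulAut.conj g).toMonoidHom := hg ▸ mem_subgroupOf.1 hw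
    obtain ⟨y, hy⟩ := hH hw'
    refine Subtype.ext ?_
    have hc : Commute ((t : ↥M) : G) w' := hy ▸ (c.emb_comm f y).map M.subtype
    have := hc.map (MulAut.conj g).toMonoidHom
    rw [e] at this
    show (w : G) * ((MulAut.conjNormal g : MulAut ↥M) t : G) = ((MulAut.conjNormal g : MulAut ↥M) t : G) * w
    rw [MulAut.conjNormal_apply]
    exact this.symm.eq
  obtain ⟨k, hk, hkg⟩ := c.correct f hx1 hCx htC hgC
  have hkK : ∀ w ∈ K, (k : G) * w * (k : G)⁻¹ = w := fun w hw => by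
    obtain ⟨y, hy⟩ := hK hw
    have := congrArg Subtype.val (mem_centralizer_iff.1 hk (emb f y) (by
      rw [SetLike.mem_coe, mem_subgroupOf, show ((emb f y : ↥M) : G) = w from hy]; exact hw))
    rw [← hy]
    show (k : G) * ((emb f y : ↥M) : G) * (k : G)⁻¹ = ((emb f y : ↥M) : G)
    rw [mul_inv_eq_iff_eq_mul]
    exact this.symm
  have hmap : K = H.map (MulAut.conj ((k : G) * g)).toMonoidHom := by
    refine SetLike.ext fun w => ⟨fun hw => ?_, ?_⟩
    · obtain ⟨v, hv, rfl⟩ : w ∈ H.map (MulAut.conj g).toMonoidHom := hg ▸ hw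
      exact ⟨v, hv, by rw [map_mul]; exact hkK _ hw⟩
    · rintro ⟨v, hv, rfl⟩
      have hm : (MulAut.conj g).toMonoidHom v ∈ K := hg ▸ mem_map_of_mem _ hv
      rw [map_mul]
      show (MulAut.conj (k : G)) ((MulAut.conj g).toMonoidHom v) ∈ K
      rw [MulAut.conj_apply, hkK _ hm]
      exact hm
  obtain ⟨α, hα⟩ := c.exists_aut f hkg
  obtain ⟨a, σ, hsl⟩ := aut_semilinear p (α := α) (x := x₀.toAdd) hd hF
    (fun e => hz1 (by rw [← hx₀, show x₀ = 1 from e, map_one])) (by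
      obtain ⟨y, hy⟩ := hK (hmap ▸ mem_map_of_mem (MulAut.conj ((k : G) * g)).toMonoidHom hz)
      refine ⟨y, f.symm.injective (E₀.subtype_injective (M.subtype_injective ?_))⟩
      refine Eq.trans ?_ (hα (u x₀))
      rw [← hx₀] at hy
      exact hy)
  refine ⟨(k : G) * g, a, σ, hmap, fun y => ?_⟩
  have := hα (π (uS y))
  rw [hsl] at this
  exact this

end Cfsg.Lib.AbEqConj
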