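import Cfsg.Agent.AbEqConj.Degree
import Cfsg.Agent.ReeAbelian.Sylow
import Cfsg.Agent.Ree.Main
import Cfsg.Agent.Classical.Misc.SmallPSL
import Cfsg.Agent.JankoOne.Iso.Main
import Cfsg.Agent.S0253
import Cfsg.Agent.S1644

/-!
Simple normal subgroups of groups in which abelian subgroups of equal order are conjugate.
-/

set_option autoImplicit false
set_option linter.unusedSectionVars false
set_option linter.style.haveILetI false

namespace Cfsg.Lib.AbEqConj

open Subgroup Cfsg.Lib.Known.AutPSL2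

universe u

variable {G : Type u} [Group G] [Finite G] {M : Subgroup G} [M.Normal] {t : ↥M} {E E₀ : Subgroup ↥M} {F : Type}
  [Field F] [Fintype F] (c : JRConf M t E E₀ F)
include c

/-- A nontrivial unipotent element of order three is not real, though some element of order three is. -/
theorem JRConf.not_ree (hE : E₀ = E) (hbig : 11 ≤ Fintype.card F) : False := by
  classical
  subst hE
  haveI : Fact (Nat.Prime 2) := ⟨Nat.prime_two⟩
  haveI : Fact (Nat.Prime 3) := ⟨Nat.prime_three⟩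
  have B := ReeAb.Base.of_setting (⟨c.simple, c.nab, c.ab, c.hyp, c.modq, hbig⟩ : Ree.Setting t E₀ F)
  obtain ⟨f⟩ := c.hyp.iso
  obtain ⟨m, hm, hq⟩ := B.q_eq
  haveI : CharP F 3 := charP_of_card_eq_prime_pow hq
  set u₁ : ↥M := emb f (Multiplicative.ofAdd (1 : F)) with hu₁
  have hu₁o : orderOf u₁ = 3 := by
    refine orderOf_eq_prime ?_ fun e => one_ne_zero (α := F)
      (Multiplicative.ofAdd.injective (emb_injective f (e.trans (map_one _).symm)))
    rw [hu₁, ← map_pow, ← ofAdd_nsmul, nsmul_eq_mul, CharP.cast_eq_zero, zero_mul, ofAdd_zero, map_one]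
  have hx1 : Multiplicative.ofAdd (1 : F) ≠ 1 := fun e => one_ne_zero (α := F) (Multiplicative.ofAdd.injective e)
  -- it is not inverted in `M`
  have hnot : ∀ y : ↥M, y * u₁ * y⁻¹ ≠ u₁⁻¹ := by
    intro y hy
    set C := centralizer ({u₁} : Set ↥M) with hC
    have htC : t ∈ C := mem_centralizer_singleton_iff.2 (c.emb_comm f _).eq
    have hyC : (MulAut.conjNormal (y : G) : MulAut ↥M) t ∈ C := by
      have e : (MulAut.conjNormal (y : G) : MulAut ↥M) t = y * t * y⁻¹ := Subtype.ext (by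
        rw [MulAut.conjNormal_apply]; rfl)
      rw [e]
      refine mem_centralizer_singleton_iff.2 ?_
      have hc : Commute t u₁⁻¹ := (c.emb_comm f _).inv_right
      have := hc.map (MulAut.conj y).toMonoidHom
      simp only [MulEquiv.coe_toMonoidHom, MulAut.conj_apply, map_inv] at this
      rw [hy, inv_inv] at this
      exact this.eq
    obtain ⟨k, hk, hky⟩ := c.correct f hx1 (le_refl C) htC hyC
    have hky' : Commute (k * y) t := Subtype.ext hky.eq
    have hinv : k * y * u₁ * (k * y)⁻¹ = u₁⁻¹ := by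
      rw [show k * y * u₁ * (k * y)⁻¹ = k * (y * u₁ * y⁻¹) * k⁻¹ by group, hy,
        ((show Commute k u₁ from mem_centralizer_singleton_iff.1 hk).inv_right).eq, mul_inv_cancel_right]
    obtain ⟨e, he, r⟩ := c.hyp.split _ hky'
    have hu₁E : u₁ ∈ E₀ := (f.symm (u (Multiplicative.ofAdd (1 : F)))).2
    have he' : e * u₁ * e⁻¹ = u₁⁻¹ := by
      rcases r with r | r <;> rw [r] at hinv
      · exact hinv
      · rwa [show t * e * u₁ * (t * e)⁻¹ = t * (e * u₁ * e⁻¹) * t⁻¹ by group,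
          (c.hyp.comm _ (c.hyp.norm e he u₁ hu₁E)).eq, mul_inv_cancel_right] at hinv
    refine B.psl.not_real ⟨u₁, hu₁E⟩ (Subtype.ext (hu₁o ▸ pow_orderOf_eq_one u₁))
      (fun e' => ?_) ⟨e, he⟩ (Subtype.ext he')
    rw [show u₁ = 1 from congrArg Subtype.val e', orderOf_one] at hu₁o
    omega
  -- a Sylow 3-subgroup of the centralizer of the unipotent group
  set U := (emb f).range with hU
  set C := centralizer (U : Set ↥M) with hCdef
  set N := normalizer (U : Set ↥M) with hNdef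
  have hUC : U ≤ C := by
    rintro _ ⟨a, rfl⟩
    exact mem_centralizer_iff.2 (by rintro _ ⟨b, rfl⟩; exact ((Commute.all b a).map (emb f)).eq)
  have hUc : Nat.card ↥U = Fintype.card F := by
    rw [hU, ← Nat.card_congr (MonoidHom.ofInjective (emb_injective f)).toEquiv,
      Nat.card_congr Multiplicative.toAdd, Nat.card_eq_fintype_card]
  have htC : t ∈ C := mem_centralizer_iff.2 (by rintro _ ⟨b, rfl⟩; exact (c.emb_comm f b).symm.eq)
  have hU3 : IsPGroup 3 ↥U := IsPGroup.of_card (n := 2 * m + 1) (by rw [hUc, hq])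
  obtain ⟨Q, hQ⟩ := hU3.exists_le_sylow
  have hQc := B.card_sylow Q
  set Q₁ := (Q : Subgroup ↥M) ⊓ N with hQ₁
  have hQ₁big : Fintype.card F < Nat.card ↥Q₁ := by
    haveI : Group.IsNilpotent ↥(Q : Subgroup ↥M) := Q.2.isNilpotent
    have hlt : U.subgroupOf (Q : Subgroup ↥M) < ⊤ := lt_top_iff_ne_top.2 fun e => by
      have h1 := card_dvd_of_le (subgroupOf_eq_top.1 e)
      rw [hQc, hUc] at h1
      have h2 := Nat.le_of_dvd (by omega) h1
      nlinarith [Nat.mul_le_mul_left (Fintype.card F) (Nat.mul_le_mul hbig hbig)]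
    obtain ⟨w, hw, hwU⟩ := SetLike.exists_of_lt (normalizerCondition_of_isNilpotent _ hlt)
    have hwN : (w : ↥M) ∈ N := mem_normalizer_fintype fun x hx => by
      have h1 := (mem_normalizer_iff.1 hw ⟨x, hQ hx⟩).1 (mem_subgroupOf.2 hx)
      exact mem_subgroupOf.1 h1
    have hle : U < Q₁ := lt_of_le_of_ne (le_inf hQ le_normalizer) fun e => hwU (mem_subgroupOf.2 (e ▸ ⟨w.2, hwN⟩))
    by_contra hh
    push Not at hh
    exact hle.ne (Subgroup.eq_of_le_of_card_ge hle.le (hUc ▸ hh))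
  have hQ₁C : Q₁ ≤ C := by
    intro w hw
    have hwN : w ∈ N := hw.2
    set L := N ⊓ centralizer ({t} : Set ↥M) with hL
    have hUL : U ≤ L := le_inf le_normalizer (by
      rintro _ ⟨b, rfl⟩; exact mem_centralizer_singleton_iff.2 (c.emb_comm f b).symm.eq)
    have hLidx : ¬ 3 ∣ U.relIndex L := by
      intro h3
      obtain ⟨R⟩ : Nonempty (Sylow 3 ↥L) := inferInstance
      have hd : 3 ^ (2 * m + 2) ∣ Nat.card ↥L := by
        rw [← Nat.card_congr (subgroupOfEquivOfLe (le_refl L)).toEquiv, Nat.card_congr (subgroupOfEquivOfLe (le_refl L)).toEquiv,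
          ← (U.subgroupOf L).card_mul_index, Nat.card_congr (subgroupOfEquivOfLe hUL).toEquiv, hUc, hq, pow_succ]
        exact Nat.mul_dvd_mul_left _ h3
      have h1 := Nat.le_of_dvd Nat.card_pos (R.pow_dvd_card_of_pow_dvd_card hd)
      have h2 := B.three_cen_le (R.2.map L.subtype) c.hyp.ord (by
        rintro _ ⟨r, -, rfl⟩; exact mem_centralizer_singleton_iff.1 r.2.2)
      rw [card_map_of_injective L.subtype_injective] at h2
      rw [hq] at h2
      have h12 := h1.trans h2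
      rw [Nat.pow_le_pow_iff_right (by norm_num)] at h12
      omega
    have hwt : (MulAut.conjNormal (w : G) : MulAut ↥M) t ∈ C := by
      have e : (MulAut.conjNormal (w : G) : MulAut ↥M) t = w * t * w⁻¹ := Subtype.ext (by
        rw [MulAut.conjNormal_apply]; rfl)
      rw [e]
      refine mem_centralizer_iff.2 fun z hz => ?_
      obtain ⟨b, hb⟩ : w⁻¹ * z * w ∈ U := by
        simpa using (mem_normalizer_iff.1 (inv_mem hwN) z).1 hz
      have := (c.emb_comm f b).symm.map (MulAut.conj w).toMonoidHom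
      simp only [MulEquiv.coe_toMonoidHom, MulAut.conj_apply, hb, show w * (w⁻¹ * z * w) * w⁻¹ = z by group] at this
      exact this.eq
    obtain ⟨k, hk, hkw⟩ := c.correct f hx1 (C := C) (fun z hz => mem_centralizer_singleton_iff.2
      (mem_centralizer_iff.1 hz _ ⟨_, rfl⟩).symm) htC hwt
    have hkL : k * w ∈ L := ⟨mul_mem (centralizer_le_normalizer _ hk) hwN,
      mem_centralizer_singleton_iff.2 (Subtype.ext hkw.eq : k * w * t = t * (k * w))⟩
    haveI : (U.subgroupOf L).Normal := normal_subgroupOf_of_le_normalizer inf_le_left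
    have hp : (k * w) ^ U.relIndex L ∈ C :=
      hUC (mem_subgroupOf.1 (pow_index_mem (U.subgroupOf L) ⟨k * w, hkL⟩))
    haveI : (C.subgroupOf N).Normal := normal_subgroupOf_of_le_normalizer (by
      intro z hz
      refine mem_normalizer_fintype fun v hv => mem_centralizer_iff.2 fun a ha => ?_
      obtain ⟨b, hb⟩ : z⁻¹ * a * z ∈ U := by simpa using (mem_normalizer_iff.1 (inv_mem hz) a).1 ha
      have := (show Commute (emb f b) v from mem_centralizer_iff.1 hv _ ⟨b, rfl⟩).map (MulAut.conj z).toMonoidHom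
      simp only [MulEquiv.coe_toMonoidHom, MulAut.conj_apply, hb, show z * (z⁻¹ * a * z) * z⁻¹ = a by group] at this
      exact this.eq)
    set π := QuotientGroup.mk' (C.subgroupOf N) with hπ
    set wN : ↥N := ⟨w, hwN⟩
    set kN : ↥N := ⟨k, centralizer_le_normalizer _ hk⟩
    have h1 : π (kN * wN) = π wN := by
      rw [map_mul, show π kN = 1 from (QuotientGroup.eq_one_iff _).2 (mem_subgroupOf.2 hk), one_mul]
    have h2 : π wN ^ U.relIndex L = 1 := by
      rw [← h1, ← map_pow]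
      exact (QuotientGroup.eq_one_iff _).2 (mem_subgroupOf.2 hp)
    obtain ⟨i, hi⟩ := IsPGroup.iff_orderOf.1 Q.2 ⟨w, hw.1⟩
    have h3 : orderOf (π wN) ∣ 3 ^ i := by
      refine (orderOf_map_dvd π wN).trans ?_
      rw [Subgroup.orderOf_mk] at hi
      rw [Subgroup.orderOf_mk, hi]
    have h4 := Nat.eq_one_of_dvd_coprimes
      (((Nat.prime_three.coprime_iff_not_dvd).2 hLidx).pow_left i) h3 (orderOf_dvd_of_pow_eq_one h2)
    exact mem_subgroupOf.1 ((QuotientGroup.eq_one_iff _).1 (orderOf_eq_one_iff.1 h4))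
  -- the normal 2-complement of `C`
  obtain ⟨S, hS⟩ := (IsPGroup.of_card (G := ↥(zpowers (⟨t, htC⟩ : ↥C))) (p := 2) (n := 1)
    (by rw [Nat.card_zpowers, Subgroup.orderOf_mk, c.hyp.ord, pow_one])).exists_le_sylow
  have htS : (⟨t, htC⟩ : ↥C) ∈ S := hS (mem_zpowers _)
  have hSmem := c.cent_sylow f hx1 (C := C) (fun z hz => mem_centralizer_singleton_iff.2
    (mem_centralizer_iff.1 hz _ ⟨_, rfl⟩).symm) htC S htS
  have hP : normalizer ((S : Subgroup ↥C) : Set ↥C) ≤ centralizer ((S : Subgroup ↥C) : Set ↥C) := by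
    intro n hn
    refine mem_centralizer_iff.2 fun z hz => ?_
    have hz' := (mem_normalizer_iff.1 hn z).1 hz
    rcases hSmem z hz with e | e
    · rw [e, one_mul, mul_one]
    · rcases hSmem _ hz' with e' | e'
      · rw [mul_inv_eq_one, mul_eq_left] at e'
        rw [e', one_mul, mul_one]
      · rw [← e, mul_inv_eq_iff_eq_mul] at e'
        exact e'.symm
  set O := (MonoidHom.transferSylow S hP).ker with hO
  have hOodd : Odd (Nat.card ↥O) := Nat.not_even_iff_odd.1 fun he =>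
    MonoidHom.not_dvd_card_ker_transferSylow S hP he.two_dvd
  -- a Sylow 3-subgroup of the complement normalized by `t`
  set φ : MulAut ↥O := MulAut.conjNormal (⟨t, htC⟩ : ↥C) with hφ
  have hφ2 : ∀ z, φ (φ z) = z := fun z => by
    rw [← MulAut.mul_apply, hφ, ← map_mul, show (⟨t, htC⟩ : ↥C) * ⟨t, htC⟩ = 1 from Subtype.ext c.hyp.tt,
      map_one, MulAut.one_apply]
  let σ₀ : Sylow 3 ↥O → Sylow 3 ↥O := fun R => R.mapSurjective (f := φ.toMonoidHom) φ.surjective
  have hσ₀ : Function.Involutive σ₀ := fun R => Sylow.ext (SetLike.ext fun z => by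
    show z ∈ ((R : Subgroup ↥O).map φ.toMonoidHom).map φ.toMonoidHom ↔ z ∈ (R : Subgroup ↥O)
    constructor
    · rintro ⟨_, ⟨v, hv, rfl⟩, rfl⟩
      rw [MulEquiv.coe_toMonoidHom, hφ2]
      exact hv
    · intro hz; exact ⟨_, ⟨z, hz, rfl⟩, hφ2 z⟩)
  letI := Fintype.ofFinite (Sylow 3 ↥O)
  obtain ⟨R, hR⟩ := Equiv.Perm.exists_fixed_point_of_prime (p := 2) (n := 1) (by
      obtain ⟨R₀⟩ : Nonempty (Sylow 3 ↥O) := inferInstance
      rw [← Nat.card_eq_fintype_card, R₀.card_eq_index_normalizer]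
      exact fun h => hOodd.not_two_dvd_nat (h.trans (index_dvd_card _)))
    (σ := hσ₀.toPerm σ₀) (by
      refine Equiv.ext fun z => ?_
      show σ₀ (σ₀ z) = z
      exact hσ₀ z)
  have hbig3 : Fintype.card F < Nat.card ↥(R : Subgroup ↥O) := by
    refine lt_of_lt_of_le hQ₁big ?_
    set Q₂ := Q₁.subgroupOf C with hQ₂
    have hQ₂p : IsPGroup 3 ↥Q₂ := (Q.2.to_le (inf_le_left : Q₁ ≤ (Q : Subgroup ↥M))).comap_subtype
    have hle : Q₂ ≤ O := by
      intro z hz
      rw [hO, MonoidHom.mem_ker, ← orderOf_eq_one_iff]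
      obtain ⟨i, hi⟩ := IsPGroup.iff_orderOf.1 hQ₂p ⟨z, hz⟩
      obtain ⟨j, hj⟩ := IsPGroup.iff_card.1 S.2
      rw [Subgroup.orderOf_mk] at hi
      exact Nat.eq_one_of_dvd_coprimes (Nat.Coprime.pow i j (by norm_num : Nat.Coprime 3 2))
        (hi ▸ orderOf_map_dvd _ z) (hj ▸ orderOf_dvd_natCard _)
    obtain ⟨R', hR'⟩ := (hQ₂p.of_equiv (subgroupOfEquivOfLe hle).symm).exists_le_sylow
    rw [← Nat.card_congr (R'.equiv R).toEquiv]
    refine le_trans (le_of_eq ?_) (card_le_of_le hR')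
    rw [Nat.card_congr (subgroupOfEquivOfLe hle).toEquiv, hQ₂, Nat.card_congr (subgroupOfEquivOfLe hQ₁C).toEquiv]
  -- an element of order three inverted by `t`
  set W : Subgroup ↥M := ((R : Subgroup ↥O).map O.subtype).map C.subtype with hW
  have hW3 : IsPGroup 3 ↥W := (R.2.map _).map _
  obtain ⟨w, hwW, hwt⟩ : ∃ w ∈ W, t * w * t⁻¹ ≠ w := by
    by_contra! h
    have h1 := B.three_cen_le hW3 c.hyp.ord fun z hz => (mul_inv_eq_iff_eq_mul.1 (h z hz)).symm
    rw [hW, card_map_of_injective C.subtype_injective, card_map_of_injective O.subtype_injective] at h1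
    omega
  have htW : t * w * t⁻¹ ∈ W := by
    obtain ⟨_, ⟨r, hr, rfl⟩, rfl⟩ := hwW
    refine ⟨_, ⟨φ r, ?_, rfl⟩, ?_⟩
    · have : φ r ∈ ((σ₀ R : Sylow 3 ↥O) : Subgroup ↥O) := ⟨r, hr, rfl⟩
      rwa [show σ₀ R = R from hR] at this
    · show ((φ r : ↥C) : ↥M) = _
      rw [hφ, MulAut.conjNormal_apply]
      rfl
  set x := w⁻¹ * (t * w * t⁻¹) with hx
  have hxW : x ∈ W := mul_mem (inv_mem hwW) htW
  have hx1' : x ≠ 1 := fun e => hwt (inv_mul_eq_one.1 e).symm
  have htx : t * x * t⁻¹ = x⁻¹ := by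
    rw [hx, c.hyp.t_inv, _root_.mul_inv_rev, _root_.mul_inv_rev, _root_.mul_inv_rev, inv_inv, c.hyp.t_inv]
    calc t * (w⁻¹ * (t * w * t)) * t = t * w⁻¹ * t * w * (t * t) := by group
      _ = t * (w⁻¹ * t) * w := by rw [c.hyp.tt, mul_one]; group
  obtain ⟨k, hk⟩ := B.order_three hW3 hxW hx1'
  set x₁ := x ^ 3 ^ k with hx₁
  have hx₁o : orderOf x₁ = 3 := by
    rw [hx₁, orderOf_pow_of_dvd (by positivity) (hk ▸ pow_dvd_pow 3 (by omega)), hk, pow_succ,
      Nat.mul_div_cancel_left _ (by positivity)]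
  have htx₁ : t * x₁ * t⁻¹ = x₁⁻¹ := by
    rw [hx₁, ← conj_pow, htx, inv_pow]
  obtain ⟨g, hg⟩ := c.aeq (zpowers (x₁ : G)) (zpowers (u₁ : G)) inferInstance inferInstance
    (by rw [Nat.card_zpowers, Nat.card_zpowers, orderOf_coe, orderOf_coe, hx₁o, hu₁o])
  have hmem : (MulAut.conj g).toMonoidHom (x₁ : G) ∈ zpowers (u₁ : G) := hg ▸ mem_map_of_mem _ (mem_zpowers _)
  obtain ⟨i, hi⟩ := mem_zpowers_iff.1 hmem
  set φg : MulAut ↥M := MulAut.conjNormal g with hφg
  have hφx : φg x₁ = u₁ ^ i := Subtype.ext (by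
    rw [hφg, MulAut.conjNormal_apply, SubgroupClass.coe_zpow, hi]
    rfl)
  have hconj : φg t * u₁ ^ i * (φg t)⁻¹ = (u₁ ^ i)⁻¹ := by
    rw [← hφx, ← map_inv, ← map_mul, ← map_mul, htx₁, map_inv]
  have hi3 : ¬ (3 : ℤ) ∣ i := fun ⟨j, hj⟩ => by
    have h1 : u₁ ^ i = 1 := by
      rw [hj, zpow_mul, show u₁ ^ (3 : ℤ) = 1 from orderOf_dvd_iff_zpow_eq_one.1 (by rw [hu₁o]; norm_num), one_zpow]
    rw [h1, MulEquiv.map_eq_one_iff] at hφx
    rw [hφx, orderOf_one] at hx₁o
    omega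
  obtain ⟨j, hj⟩ : ∃ j : ℤ, i = 3 * j + 1 ∨ i = 3 * j + 2 := ⟨i / 3, by omega⟩
  have hz : ∀ r : ℤ, u₁ ^ (3 * j + r) = u₁ ^ r := fun r => by
    rw [zpow_add, zpow_mul, show u₁ ^ (3 : ℤ) = 1 from orderOf_dvd_iff_zpow_eq_one.1 (by rw [hu₁o]; norm_num),
      one_zpow, one_mul]
  rcases hj with rfl | rfl
  · rw [hz, zpow_one] at hconj
    exact hnot _ hconj
  · have h2 : u₁ ^ (2 : ℤ) = u₁⁻¹ := by
      rw [eq_inv_iff_mul_eq_one, ← zpow_add_one]
      exact orderOf_dvd_iff_zpow_eq_one.1 (by rw [hu₁o]; norm_num)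
    rw [hz, h2, inv_inv] at hconj
    refine hnot (φg t) ?_
    have := congrArg (·⁻¹) hconj
    simpa [_root_.mul_inv_rev, mul_assoc] using this

/-- The group is the first Janko group. -/
theorem JRConf.isoJ1 : Cfsg.Spor.IsoJ1 ↥M := by
  obtain ⟨p, d, hp, hd, hF⟩ : ∃ p d : ℕ, p.Prime ∧ 1 ≤ d ∧ Fintype.card F = p ^ d := by
    obtain ⟨n, hp, hn⟩ := FiniteField.card F (ringChar F)
    exact ⟨_, _, hp, n.2, hn⟩
  haveI := Fact.mk hp
  haveI : CharP F p := charP_of_card_eq_prime_pow hF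
  letI : Algebra (ZMod p) F := ZMod.algebra F p
  haveI := c.simple
  obtain ⟨hE, -⟩ := c.eq_E₀ hd hF
  have h5 : Fintype.card F = 5 := by
    by_contra hne
    exact c.not_ree hE (by have := c.modq; have := c.five; omega)
  subst hE
  obtain ⟨f⟩ := c.hyp.iso
  obtain ⟨g⟩ := Cfsg.Agent.S0253.result h5
  obtain ⟨T⟩ : Nonempty (Sylow 2 ↥M) := inferInstance
  have hmem : ∀ (b : Bool) (e : ↥E₀), (cond b t 1) * (e : ↥M) ∈ centralizer ({t} : Set ↥M) := fun b e => by
    refine mem_centralizer_singleton_iff.2 ?_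
    cases b
    · simpa using (c.hyp.comm _ e.2).eq.symm
    · exact ((Commute.refl t).mul_left (c.hyp.comm _ e.2).symm).eq
  let τ : Multiplicative (ZMod 2) →* ↥(centralizer ({t} : Set ↥M)) :=
    { toFun := fun a => if a = 1 then 1 else ⟨t, mem_centralizer_singleton_iff.2 rfl⟩
      map_one' := if_pos rfl
      map_mul' := by
        have key : ∀ a b : Multiplicative (ZMod 2), a = 1 ∨ b = 1 ∨ (a ≠ 1 ∧ b ≠ 1 ∧ a * b = 1) := by decide
        intro a b
        rcases key a b with rfl | rfl | ⟨ha, hb, hab⟩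
        · simp
        · simp
        · simp [ha, hb, hab]
          exact Subtype.ext c.hyp.tt.symm }
  let ι : alternatingGroup (Fin 5) →* ↥(centralizer ({t} : Set ↥M)) :=
    ((E₀.subtype.comp ((f.trans g).symm.toMonoidHom)).codRestrict _ fun a =>
      mem_centralizer_singleton_iff.2 (c.hyp.comm _ ((f.trans g).symm a).2).symm.eq)
  have hcomm : ∀ a b, Commute (τ a) (ι b) := fun a b => by
    by_cases h : a = 1
    · rw [h, map_one]; exact Commute.one_left _
    · refine Subtype.ext ?_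
      simp only [τ, MonoidHom.coe_mk, OneHom.coe_mk, if_neg h]
      exact (c.hyp.comm _ ((f.trans g).symm b).2).eq
  let Φ := MonoidHom.noncommCoprod τ ι hcomm
  have hτ : ∀ a, a ≠ 1 → ((τ a : ↥(centralizer ({t} : Set ↥M))) : ↥M) = t := fun a ha => by
    simp [τ, ha]
  have hbij : Function.Bijective Φ := by
    refine ⟨(injective_iff_map_eq_one Φ).2 ?_, ?_⟩
    · rintro ⟨a, b⟩ h
      have h' : ((τ a : ↥(centralizer ({t} : Set ↥M))) : ↥M) * ((f.trans g).symm b : ↥M) = 1 :=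
        congrArg Subtype.val h
      by_cases ha : a = 1
      · subst ha
        simp only [map_one, OneMemClass.coe_one, one_mul, OneMemClass.coe_eq_one, MulEquiv.map_eq_one_iff] at h'
        simp [h']
      · rw [hτ a ha] at h'
        exact absurd (eq_inv_of_mul_eq_one_left h' ▸ inv_mem ((f.trans g).symm b).2) c.hyp.disj
    · rintro ⟨x, hx⟩
      obtain ⟨e, he, r | r⟩ := c.hyp.split x (mem_centralizer_singleton_iff.1 hx)
      · refine ⟨(1, (f.trans g) ⟨e, he⟩), Subtype.ext ?_⟩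
        simp [Φ, ι, MonoidHom.noncommCoprod_apply, r]
      · refine ⟨(Multiplicative.ofAdd 1, (f.trans g) ⟨e, he⟩), Subtype.ext ?_⟩
        simp [Φ, ι, MonoidHom.noncommCoprod_apply, r, hτ _ (by decide : Multiplicative.ofAdd (1 : ZMod 2) ≠ 1)]
  exact Cfsg.Agent.S1644.result T (c.ab T) (c.card8 T) t c.hyp.ord (MulEquiv.ofBijective Φ hbij).symm

omit c in
/-- The conclusion of row 3914. -/
theorem main (hB : AEq G) (M : Subgroup G) [M.Normal] (hs : IsSimpleGroup ↥M) (hna : ¬ IsMulCommutative ↥M) :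
    (∃ (F : Type) (_ : Field F) (_ : Fintype F), (Fintype.card F = 2 ^ 2 ∨ Fintype.card F = 2 ^ 3 ∨ Fintype.card F = 2 ^ 5) ∧
        Nonempty (↥M ≃* Matrix.SpecialLinearGroup (Fin 2) F)) ∨
    (∃ (F : Type) (_ : Field F) (_ : Fintype F), 5 ≤ Fintype.card F ∧ (Fintype.card F % 8 = 3 ∨ Fintype.card F % 8 = 5) ∧
        Nonempty (↥M ≃* Matrix.ProjectiveSpecialLinearGroup (Fin 2) F)) ∨
    Cfsg.Spor.IsoJ1 ↥M := by
  have hab := abTwo hB M hna
  rcases Walter.walterProp ↥M hna hab with ⟨F, i, j, ⟨n, hn, hF⟩, ⟨e⟩⟩ | ⟨F, i, j, h8, h5, e⟩ |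
    ⟨h8, t, E, E₀, F, i, j, h5, hm, hH⟩
  · obtain ⟨hn', hsl⟩ := binary_case hB M hna hn hF e
    refine Or.inl ⟨F, i, j, ?_, hsl⟩
    rcases hn' with rfl | rfl | rfl <;> simp [hF]
  · exact Or.inr (Or.inl ⟨F, i, j, h5, h8, e⟩)
  · exact Or.inr (Or.inr (JRConf.isoJ1
      ⟨hB, hs, hna, h8, fun S => ⟨⟨fun a b => Subtype.ext (hab S a a.2 b b.2)⟩⟩, h5, hm, hH⟩))

end Cfsg.Lib.AbEqConj
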