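import Cfsg.Agent.EqualOrder.JR.Field

/-!
Automorphisms of `PSL(2, q)` on the unipotent group, and the semilinear maps that are transitive on the
subgroups of order `p ^ 2` of the additive group.
-/

set_option autoImplicit false
set_option linter.unusedSectionVars false
set_option linter.style.haveILetI false

namespace Cfsg.Lib.AbEqConj

open Matrix Cfsg.Lib.Known.AutPSL2

variable {F : Type*} [Field F] [Fintype F] (p : ℕ) [Fact p.Prime] [CharP F p] [Algebra (ZMod p) F]

local notation "PG" => Matrix.ProjectiveSpecialLinearGroup (Fin 2) F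

omit [Fintype F] [Fact p.Prime] [CharP F p] [Algebra (ZMod p) F] in
/-- An element conjugating a nontrivial unipotent element into the unipotent group scales that group. -/
theorem conj_u_scale {g : PG} {x : F} (hx : x ≠ 0) (h : g * π (uS x) * g⁻¹ ∈ (u (F := F)).range) :
    ∃ b : Fˣ, ∀ y : F, g * π (uS y) * g⁻¹ = π (uS ((b : F) * y)) := by
  obtain ⟨M, rfl⟩ := QuotientGroup.mk'_surjective _ g
  obtain ⟨z, hz⟩ := h
  rw [← map_inv, ← map_mul, ← map_mul] at hz
  have h10 := π_eq_apply (show π (uS z.toAdd) = π (M * uS x * M⁻¹) from hz) 1 0 (by simp [coe_uS])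
  rw [conj_uS] at h10
  simp [hx] at h10
  have hd := M.2
  rw [det_fin_two, h10, mul_zero, sub_zero] at hd
  have h00 : M.1 0 0 ≠ 0 := left_ne_zero_of_mul_eq_one hd
  refine ⟨Units.mk0 (M.1 0 0 ^ 2) (pow_ne_zero 2 h00), fun y => ?_⟩
  rw [← map_inv, ← map_mul, ← map_mul]
  congr 1
  refine sl_ext ?_
  rw [conj_uS, coe_uS]
  simp [h10]

/-- An automorphism mapping a nontrivial unipotent element into the unipotent group is semilinear there. -/
theorem aut_semilinear {d : ℕ} (hd : 1 ≤ d) (hF : Fintype.card F = p ^ d) {α : MulAut PG} {x : F} (hx : x ≠ 0)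
    (h : α (π (uS x)) ∈ (u (F := F)).range) :
    ∃ (a : Fˣ) (σ : F ≃ₐ[ZMod p] F), ∀ y : F, α (π (uS y)) = π (uS ((a : F) * σ y)) := by
  obtain ⟨g, a, σ, rfl⟩ := exists_decomp p hd hF α
  have hα : ∀ y : F, (MulAut.conj g * diagAut a * fieldAut p σ) (π (uS y)) = g * π (uS ((a : F) * σ y)) * g⁻¹ :=
    fun y => by rw [MulAut.mul_apply, MulAut.mul_apply, fieldAut_u, diagAut_u, MulAut.conj_apply]
  rw [hα] at h
  obtain ⟨b, hb⟩ := conj_u_scale (mul_ne_zero a.ne_zero fun e => hx (σ.injective (e.trans (map_zero σ).symm))) h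
  exact ⟨b * a, σ, fun y => by rw [hα, hb, Units.val_mul, mul_assoc]⟩

/-- The additive subgroup spanned by two elements. -/
noncomputable def span₂ (x y : F) : AddSubgroup F :=
  (AddMonoidHom.mk' (fun c : ZMod p × ZMod p => algebraMap (ZMod p) F c.1 * x + algebraMap (ZMod p) F c.2 * y)
    fun c c' => by simp only [Prod.fst_add, Prod.snd_add, map_add]; ring).range

theorem mem_span₂ (x y : F) : x ∈ span₂ p x y ∧ y ∈ span₂ p x y :=
  ⟨⟨(1, 0), by simp⟩, ⟨(0, 1), by simp⟩⟩

/-- Independent elements span a subgroup of order `p ^ 2`. -/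
theorem card_span₂ {x y : F} (hx : x ≠ 0) (hy : ∀ i : ZMod p, y ≠ algebraMap (ZMod p) F i * x) :
    Nat.card (span₂ p x y) = p ^ 2 := by
  rw [span₂, ← Nat.card_congr (AddMonoidHom.ofInjective ?_).toEquiv, Nat.card_prod, Nat.card_zmod, pow_two]
  refine (injective_iff_map_eq_zero _).2 fun c hc => ?_
  simp only [AddMonoidHom.mk'_apply] at hc
  by_cases h2 : c.2 = 0
  · rw [h2, map_zero, zero_mul, add_zero, mul_eq_zero] at hc
    exact Prod.ext ((map_eq_zero _).1 (hc.resolve_right hx)) h2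
  · refine absurd ?_ (hy (-c.1 / c.2))
    have h2' : algebraMap (ZMod p) F c.2 ≠ 0 := fun e => h2 ((map_eq_zero _).1 e)
    rw [map_div₀, map_neg]
    field_simp
    linear_combination hc

/-- The number of images of a subgroup of order `p ^ 2` bounds the pairs of independent elements. -/
theorem pairs_le (S : Finset (AddSubgroup F)) (hcard : ∀ B ∈ S, Nat.card B = p ^ 2)
    (hall : ∀ B : AddSubgroup F, Nat.card B = p ^ 2 → B ∈ S) :
    (Fintype.card F - 1) * (Fintype.card F - p) ≤ S.card * ((p ^ 2 - 1) * (p ^ 2 - p)) := by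
  classical
  let line : F → Finset F := fun x => Finset.univ.image fun i : ZMod p => algebraMap (ZMod p) F i * x
  have hline : ∀ x : F, x ≠ 0 → (line x).card = p := fun x hx => by
    rw [Finset.card_image_of_injective _ fun i j h => (algebraMap (ZMod p) F).injective (mul_right_cancel₀ hx h),
      Finset.card_univ, ZMod.card]
  let pairs : Finset F → Finset ((_ : F) × F) := fun T => (T.erase 0).sigma fun x => T \ line x
  have hpairs : ∀ T : Finset F, (∀ x ∈ T.erase 0, line x ⊆ T) →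
      (pairs T).card = (T.erase 0).card * (T.card - p) := fun T hT => by
    rw [Finset.card_sigma, Finset.sum_congr rfl fun x hx => by
      rw [Finset.card_sdiff_of_subset (hT x hx), hline x (Finset.mem_erase.1 hx).1], Finset.sum_const, smul_eq_mul]
  have hsub : pairs Finset.univ ⊆ S.biUnion fun B => pairs (Finset.univ.filter (· ∈ B)) := by
    rintro ⟨x, y⟩ hxy
    simp only [pairs, Finset.mem_sigma, Finset.mem_erase, Finset.mem_sdiff] at hxy
    refine Finset.mem_biUnion.2 ⟨span₂ p x y, hall _ (card_span₂ p hxy.1.1 fun i e => hxy.2.2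
      (Finset.mem_image.2 ⟨i, Finset.mem_univ _, e.symm⟩)), ?_⟩
    simp only [pairs, Finset.mem_sigma, Finset.mem_erase, Finset.mem_sdiff, Finset.mem_filter, Finset.mem_univ,
      true_and]
    exact ⟨⟨hxy.1.1, (mem_span₂ p x y).1⟩, (mem_span₂ p x y).2, hxy.2.2⟩
  have h := (Finset.card_le_card hsub).trans Finset.card_biUnion_le
  rw [hpairs _ (fun x _ => Finset.subset_univ _), Finset.card_erase_of_mem (Finset.mem_univ _), Finset.card_univ] at h
  refine h.trans (le_of_eq ?_)
  rw [← smul_eq_mul S.card, ← Finset.sum_const]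
  refine Finset.sum_congr rfl fun B hB => ?_
  have hBc : (Finset.univ.filter (· ∈ B)).card = p ^ 2 := by
    rw [← hcard B hB, Nat.card_eq_fintype_card, Fintype.card_subtype]
  rw [hpairs, Finset.card_erase_of_mem (by simp [zero_mem]), hBc]
  intro x hx z hz
  obtain ⟨i, -, rfl⟩ := Finset.mem_image.1 hz
  refine Finset.mem_filter.2 ⟨Finset.mem_univ _, ?_⟩
  rw [← ZMod.natCast_zmod_val i, map_natCast, ← nsmul_eq_mul]
  exact nsmul_mem (Finset.mem_filter.1 (Finset.mem_erase.1 hx).2).2 _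

omit [Fintype F] [CharP F p] in
/-- The semilinear maps send one subgroup of order `p ^ 2` to every other. -/
def Transitive : Prop :=
  ∀ A B : AddSubgroup F, Nat.card A = p ^ 2 → Nat.card B = p ^ 2 →
    ∃ (a : Fˣ) (σ : F ≃ₐ[ZMod p] F), ∀ z, z ∈ A ↔ (a : F) * σ z ∈ B

/-- The degree is at most three in odd characteristic. -/
theorem degree_le (htr : Transitive (F := F) p) {d : ℕ} (hF : Fintype.card F = p ^ d) (hd : Odd d) (hp : p ≠ 2) :
    d ≤ 3 := by
  classical
  by_contra hd3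
  have hd5 : 5 ≤ d := by obtain ⟨k, rfl⟩ := hd; omega
  have hp3 : 3 ≤ p := by have := (Fact.out : p.Prime).two_le; omega
  haveI : FiniteDimensional (ZMod p) F := Module.Finite.of_finite
  have hfin : Module.finrank (ZMod p) F = d := by
    have h := Module.card_eq_pow_finrank (K := ZMod p) (V := F)
    rw [hF, ZMod.card] at h
    exact (Nat.pow_right_injective (Fact.out : p.Prime).two_le h).symm
  -- the first subgroup
  obtain ⟨y, hy⟩ : ∃ y : F, ∀ i : ZMod p, y ≠ algebraMap (ZMod p) F i * 1 := by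
    by_contra! h
    have := Nat.card_le_card_of_surjective (fun i : ZMod p => algebraMap (ZMod p) F i * 1)
      fun y => let ⟨i, hi⟩ := h y; ⟨i, hi.symm⟩
    rw [Nat.card_eq_fintype_card, hF, Nat.card_zmod] at this
    have h2 : p ^ 2 ≤ p ^ d := Nat.pow_le_pow_right (by omega) (by omega)
    nlinarith
  set A := span₂ p (1 : F) y
  have hA : Nat.card A = p ^ 2 := card_span₂ p one_ne_zero hy
  let img : Fˣ × (F ≃ₐ[ZMod p] F) → AddSubgroup F := fun c =>
    A.map ((AddMonoidHom.mulLeft (c.1 : F)).comp c.2.toRingEquiv.toRingHom.toAddMonoidHom)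
  set S := (Finset.univ : Finset (Fˣ × (F ≃ₐ[ZMod p] F))).image img with hS
  have hinj : ∀ c : Fˣ × (F ≃ₐ[ZMod p] F), Function.Injective
      ((AddMonoidHom.mulLeft (c.1 : F)).comp c.2.toRingEquiv.toRingHom.toAddMonoidHom) := fun c a b h =>
    c.2.injective (mul_left_cancel₀ c.1.ne_zero h)
  have h1 := pairs_le p S (fun B hB => by
      obtain ⟨c, -, rfl⟩ := Finset.mem_image.1 hB
      rw [show Nat.card ↥(img c) = Nat.card A from (Nat.card_congr (A.equivMapOfInjective _ (hinj c)).toEquiv).symm, hA])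
    fun B hB => by
      obtain ⟨a, σ, h⟩ := htr A B hA hB
      refine Finset.mem_image.2 ⟨(a, σ), Finset.mem_univ _, AddSubgroup.ext fun w => ⟨?_, fun hw => ?_⟩⟩
      · rintro ⟨z, hz, rfl⟩; exact (h z).1 hz
      · refine ⟨σ.symm ((a : F)⁻¹ * w), (h _).2 ?_, ?_⟩ <;>
          simp [hw]
  -- a scalar and its negative have the same image
  have h2 : 2 * S.card ≤ Fintype.card (Fˣ × (F ≃ₐ[ZMod p] F)) := by
    rw [← Finset.card_univ]
    refine Finset.mul_card_image_le_card _ 2 fun B hB => ?_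
    obtain ⟨⟨a, σ⟩, -, rfl⟩ := Finset.mem_image.1 hB
    refine Finset.one_lt_card.2 ⟨(a, σ), by simp, (-a, σ), ?_, fun e => ?_⟩
    · refine Finset.mem_filter.2 ⟨Finset.mem_univ _, AddSubgroup.ext fun w => ⟨?_, ?_⟩⟩ <;>
        · rintro ⟨z, hz, rfl⟩
          exact ⟨-z, neg_mem hz, by simp⟩
    · have h2 : (a : F) = -a := congrArg (fun c : Fˣ × (F ≃ₐ[ZMod p] F) => (c.1 : F)) e
      have h3 : ((2 : ℕ) : F) * (a : F) = 0 := by push_cast; linear_combination h2
      rcases mul_eq_zero.1 h3 with h4 | h4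
      · rw [CharP.cast_eq_zero_iff F p, Nat.prime_dvd_prime_iff_eq Fact.out Nat.prime_two] at h4
        exact hp h4
      · exact a.ne_zero h4
  rw [Fintype.card_prod, Fintype.card_units, ← Nat.card_eq_fintype_card (α := F ≃ₐ[ZMod p] F),
    IsGalois.card_aut_eq_finrank, hfin, hF] at h2
  rw [hF] at h1
  -- arithmetic
  have hq1 : 1 < p ^ d := Nat.one_lt_pow (by omega) (by omega)
  have h3 : 2 * (p ^ d - p) ≤ d * ((p ^ 2 - 1) * (p ^ 2 - p)) := by
    refine Nat.le_of_mul_le_mul_left ?_ (show 0 < p ^ d - 1 by omega)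
    calc (p ^ d - 1) * (2 * (p ^ d - p)) = 2 * ((p ^ d - 1) * (p ^ d - p)) := by ring
      _ ≤ 2 * (S.card * ((p ^ 2 - 1) * (p ^ 2 - p))) := Nat.mul_le_mul_left 2 h1
      _ = (2 * S.card) * ((p ^ 2 - 1) * (p ^ 2 - p)) := by ring
      _ ≤ ((p ^ d - 1) * d) * ((p ^ 2 - 1) * (p ^ 2 - p)) := Nat.mul_le_mul_right _ h2
      _ = (p ^ d - 1) * (d * ((p ^ 2 - 1) * (p ^ 2 - p))) := by ring
  have hgrow : ∀ k : ℕ, (2 * k + 5) * p ^ 4 + 2 * p < 2 * p ^ (2 * k + 5) + (2 * k + 5) * p ^ 3 := by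
    intro k
    induction k with
    | zero =>
      have h5 : 3 * p ^ 4 ≤ p ^ 5 := by
        rw [show p ^ 5 = p * p ^ 4 by ring]; exact Nat.mul_le_mul_right _ hp3
      have h1 : 2 * p < p ^ 4 := by
        rw [show p ^ 4 = p ^ 3 * p by ring]
        exact Nat.mul_lt_mul_of_pos_right (by nlinarith [Nat.pow_le_pow_left hp3 3]) (by omega)
      simp only [Nat.mul_zero, Nat.zero_add]
      omega
    | succ k ih =>
      have h4 : p ^ 4 ≤ p ^ (2 * k + 5) := Nat.pow_le_pow_right (by omega) (by omega)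
      rw [show 2 * (k + 1) + 5 = (2 * k + 5) + 2 by ring, pow_add p (2 * k + 5) 2]
      have h9 : 9 * p ^ (2 * k + 5) ≤ p ^ (2 * k + 5) * p ^ 2 := by
        rw [mul_comm]; exact Nat.mul_le_mul_left _ (by nlinarith)
      rw [Nat.add_mul (2 * k + 5) 2, Nat.add_mul (2 * k + 5) 2]
      omega
  obtain ⟨k, rfl⟩ : ∃ k, d = 2 * k + 5 := by obtain ⟨k, rfl⟩ := hd; exact ⟨k - 2, by omega⟩
  have hg := hgrow k
  have hpd : p ≤ p ^ (2 * k + 5) := Nat.le_self_pow (by omega) p
  have hp2 : p ≤ p ^ 2 := Nat.le_self_pow (by omega) p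
  have hb : (p ^ 2 - 1) * (p ^ 2 - p) + p ^ 3 ≤ p ^ 4 := by
    have e : p ^ 2 * (p ^ 2 - p) + p ^ 3 = p ^ 4 := by
      rw [show p ^ 3 = p ^ 2 * p by ring, ← Nat.mul_add, Nat.sub_add_cancel hp2, ← pow_add]
    have := Nat.mul_le_mul_right (p ^ 2 - p) (Nat.sub_le (p ^ 2) 1)
    omega
  have := Nat.mul_le_mul_left (2 * k + 5) hb
  rw [Nat.mul_add] at this
  omega

/-- In characteristic two the degree is neither four nor above five. -/
theorem degree_two (htr : Transitive (F := F) p) {d : ℕ} (hF : Fintype.card F = p ^ d) (hp : p = 2) (hd2 : 2 ≤ d) :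
    d = 2 ∨ d = 3 ∨ d = 5 := by
  classical
  subst hp
  haveI : FiniteDimensional (ZMod 2) F := Module.Finite.of_finite
  have hfin : Module.finrank (ZMod 2) F = d := by
    have h := Module.card_eq_pow_finrank (K := ZMod 2) (V := F)
    rw [hF, ZMod.card] at h
    exact (Nat.pow_right_injective le_rfl h).symm
  -- the bound for one subgroup with `N` images
  have bound : ∀ (A : AddSubgroup F), Nat.card A = 4 → ∀ T : Finset (AddSubgroup F),
      (∀ (a : Fˣ) (σ : F ≃ₐ[ZMod 2] F) (B : AddSubgroup F), (∀ z, z ∈ A ↔ (a : F) * σ z ∈ B) → B ∈ T) →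
      (∀ B ∈ T, Nat.card B = 4) → 2 ^ d - 2 ≤ 6 * T.card / (2 ^ d - 1) := by
    intro A hA T hT hTc
    have h := pairs_le 2 T hTc fun B hB => by
      obtain ⟨a, σ, h⟩ := htr A B hA hB
      exact hT a σ B h
    rw [hF] at h
    have hpos : 0 < 2 ^ d - 1 := by
      have : 4 ≤ 2 ^ d := (Nat.pow_le_pow_right two_pos hd2)
      omega
    rw [Nat.le_div_iff_mul_le hpos, mul_comm, mul_comm 6]
    exact h
  obtain ⟨y, hy⟩ : ∃ y : F, ∀ i : ZMod 2, y ≠ algebraMap (ZMod 2) F i * 1 := by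
    by_contra! h
    have := Nat.card_le_card_of_surjective (fun i : ZMod 2 => algebraMap (ZMod 2) F i * 1)
      fun y => let ⟨i, hi⟩ := h y; ⟨i, hi.symm⟩
    rw [Nat.card_eq_fintype_card, hF, Nat.card_zmod] at this
    have h2 : 2 ^ 2 ≤ 2 ^ d := Nat.pow_le_pow_right (by omega) (by omega)
    omega
  let img : AddSubgroup F → Fˣ × (F ≃ₐ[ZMod 2] F) → AddSubgroup F := fun A c =>
    A.map ((AddMonoidHom.mulLeft (c.1 : F)).comp c.2.toRingEquiv.toRingHom.toAddMonoidHom)
  have hinj : ∀ c : Fˣ × (F ≃ₐ[ZMod 2] F), Function.Injective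
      ((AddMonoidHom.mulLeft (c.1 : F)).comp c.2.toRingEquiv.toRingHom.toAddMonoidHom) := fun c a b h =>
    c.2.injective (mul_left_cancel₀ c.1.ne_zero h)
  have hmem : ∀ (A B : AddSubgroup F) (a : Fˣ) (σ : F ≃ₐ[ZMod 2] F),
      (∀ z, z ∈ A ↔ (a : F) * σ z ∈ B) → img A (a, σ) = B := fun A B a σ h => by
    refine AddSubgroup.ext fun w => ⟨?_, fun hw => ?_⟩
    · rintro ⟨z, hz, rfl⟩; exact (h z).1 hz
    · refine ⟨σ.symm ((a : F)⁻¹ * w), (h _).2 ?_, ?_⟩ <;> simp [hw]
  have himg : ∀ A : AddSubgroup F, Nat.card A = 4 → ∀ c, Nat.card (img A c) = 4 := fun A hA c =>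
    (Nat.card_congr (A.equivMapOfInjective _ (hinj c)).toEquiv).symm.trans hA
  -- the general bound
  set A := span₂ 2 (1 : F) y
  have hA : Nat.card A = 4 := card_span₂ 2 one_ne_zero hy
  have h1 := bound A hA (Finset.univ.image (img A))
    (fun a σ B h => Finset.mem_image.2 ⟨(a, σ), Finset.mem_univ _, hmem A B a σ h⟩)
    (fun B hB => by obtain ⟨c, -, rfl⟩ := Finset.mem_image.1 hB; exact himg A hA c)
  have hcard : (Finset.univ.image (img A)).card ≤ (2 ^ d - 1) * d := Finset.card_image_le.trans (by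
    rw [Finset.card_univ, Fintype.card_prod, Fintype.card_units, ← Nat.card_eq_fintype_card (α := F ≃ₐ[ZMod 2] F),
      IsGalois.card_aut_eq_finrank, hfin, hF])
  have hpos : 0 < 2 ^ d - 1 := by
    have : 4 ≤ 2 ^ d := (Nat.pow_le_pow_right two_pos hd2)
    omega
  have h6 : 2 ^ d - 2 ≤ 6 * d := h1.trans (Nat.div_le_of_le_mul (by
    calc 6 * (Finset.univ.image (img A)).card ≤ 6 * ((2 ^ d - 1) * d) := Nat.mul_le_mul_left 6 hcard
      _ = (2 ^ d - 1) * (6 * d) := by ring))
  have hd5 : d ≤ 5 := by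
    by_contra hd5
    obtain ⟨k, rfl⟩ : ∃ k, d = 6 + k := ⟨d - 6, by omega⟩
    have hk : k < 2 ^ k := Nat.lt_two_pow_self
    rw [pow_add] at h6
    omega
  rcases (by omega : d = 2 ∨ d = 3 ∨ d = 5 ∨ d = 4) with h | h | h | rfl
  · exact Or.inl h
  · exact Or.inr (Or.inl h)
  · exact Or.inr (Or.inr h)
  exfalso
  -- the subfield of order four has at most fifteen images
  have hq : Nat.card Fˣ = 15 := by rw [Nat.card_units, Nat.card_eq_fintype_card, hF]; norm_num
  haveI : Fact (Nat.Prime 3) := ⟨Nat.prime_three⟩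
  obtain ⟨w, hw⟩ := exists_prime_orderOf_dvd_card' (G := Fˣ) 3 (by rw [hq]; norm_num)
  have hw1 : (w : F) ≠ 1 := fun e => by rw [Units.val_eq_one.1 e, orderOf_one] at hw; omega
  have hw3 : (w : F) ^ 3 = 1 := by rw [← Units.val_pow_eq_pow_val, ← hw, pow_orderOf_eq_one, Units.val_one]
  have h20 : (2 : F) = 0 := CharTwo.two_eq_zero
  have hww : (w : F) ^ 2 = w + 1 := by
    rcases mul_eq_zero.1 (show ((w : F) - 1) * ((w : F) ^ 2 + w + 1) = 0 by linear_combination hw3) with h | h
    · exact absurd (sub_eq_zero.1 h) hw1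
    · linear_combination h - ((w : F) + 1) * h20
  set W := span₂ 2 (1 : F) (w : F)
  have hW : Nat.card W = 4 := card_span₂ 2 one_ne_zero fun i e => by
    rw [mul_one] at e
    have hi : ∀ j : ZMod 2, j = 0 ∨ j = 1 := (by decide : ∀ j : Fin 2, j = 0 ∨ j = 1)
    rcases hi i with rfl | rfl
    · exact w.ne_zero (by simp at e)
    · exact hw1 (by simpa using e)
  have hWmem : ∀ (σ : F ≃ₐ[ZMod 2] F) (z : F), z ∈ W → σ z ∈ W := by
    intro σ z hz
    obtain ⟨c, rfl⟩ := hz
    simp only [AddMonoidHom.mk'_apply, map_add, map_mul, AlgEquiv.commutes, map_one]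
    have hσ : σ (w : F) = w ∨ σ (w : F) = w + 1 := by
      have e := congrArg σ hww
      rw [map_pow, map_add, map_one] at e
      rcases mul_eq_zero.1 (show (σ (w : F) - w) * (σ (w : F) - (w + 1)) = 0 by
        linear_combination e + hww + (1 + (w : F) - σ (w : F) * (w : F)) * h20) with h | h
      · exact Or.inl (sub_eq_zero.1 h)
      · exact Or.inr (sub_eq_zero.1 h)
    rcases hσ with h | h <;> rw [h]
    · exact ⟨c, rfl⟩
    · refine ⟨(c.1 + c.2, c.2), ?_⟩
      simp only [AddMonoidHom.mk'_apply, map_add]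
      ring
  have h15 := bound W hW (Finset.univ.image fun a : Fˣ => img W (a, 1))
    (fun a σ B h => Finset.mem_image.2 ⟨a, Finset.mem_univ _, hmem W B a 1 fun z => ⟨fun hz => by
      have := (h (σ.symm z)).1 (hWmem _ _ hz)
      simpa using this, fun hz => by
      have hz' : (a : F) * σ (σ.symm z) ∈ B := by simpa using hz
      simpa using hWmem σ _ ((h (σ.symm z)).2 hz')⟩⟩)
    (fun B hB => by obtain ⟨c, -, rfl⟩ := Finset.mem_image.1 hB; exact himg W hW _)
  have : (Finset.univ.image fun a : Fˣ => img W (a, 1)).card ≤ 15 :=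
    Finset.card_image_le.trans (by rw [Finset.card_univ, ← Nat.card_eq_fintype_card, hq])
  have := h15.trans (Nat.div_le_div_right (Nat.mul_le_mul_left 6 this))
  norm_num at this

end Cfsg.Lib.AbEqConj
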